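import Cfsg.Agent.PERM.F4.Hy

/-!
S3404: the hexad lemma. (no faithfulness, no Frobenius groups)
-/

set_option autoImplicit false

namespace CL.F4

open scoped Pointwise

variable {G Ω : Type*} [Group G] [Finite G] [MulAction G Ω] [Fintype Ω] [DecidableEq Ω]

variable (Ω) in
/-- the hypotheses of `hex` on `x` -/
structure HX (x : G) : Prop where
  pg : ∀ Q : Finset Ω, Q.card = 4 → IsPGroup 2 (Sy G Q)
  ne : ∀ Q : Finset Ω, Q.card = 4 → Sy G Q ≠ ⊥
  h5 : ∀ T : Subgroup G, IsPGroup 2 T → T ≠ ⊥ → 5 ≤ (Fx Ω T).card →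
      Nat.card T = 2 ∧ (Fx Ω T).card = 6
  x1 : x ≠ 1
  xx : x * x = 1
  six : (fx Ω x).card = 6

namespace HX

/-- `u` is a lift of the edge `a b` -/
structure Lf (x u : G) (a b : Ω) : Prop where
  two : Two u
  com : Commute x u
  ha : a ∈ fx Ω x
  hb : b ∈ fx Ω x
  ne : a ≠ b
  ab : u • a = b
  ba : u • b = a
  fix : ∀ ω ∈ fx Ω x, ω ≠ a → ω ≠ b → u • ω = ω

variable {x : G}

omit [Finite G] [DecidableEq Ω] in
theorem Lf.symm {u : G} {a b : Ω} (L : Lf x u a b) : Lf x u b a :=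
  ⟨L.two, L.com, L.hb, L.ha, L.ne.symm, L.ba, L.ab, fun ω h h1 h2 => L.fix ω h h2 h1⟩

omit [Finite G] [DecidableEq Ω] in
theorem Lf.conj {u s : G} {a b : Ω} (L : Lf x u a b) (hs : Commute x s) :
    Lf x (s * u * s⁻¹) (s • a) (s • b) := by
  refine ⟨?_, (hs.mul_right L.com).mul_right hs.inv_right, smul_mem_fx hs.symm L.ha,
    smul_mem_fx hs.symm L.hb, fun e => L.ne (smul_left_cancel s e), ?_, ?_, fun ω h h1 h2 => ?_⟩
  · obtain ⟨k, hk⟩ := L.two
    exact ⟨k, by rw [conj_pow, hk, mul_one, mul_inv_cancel]⟩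
  · rw [mul_smul, mul_smul, inv_smul_smul, L.ab]
  · rw [mul_smul, mul_smul, inv_smul_smul, L.ba]
  · rw [mul_smul, mul_smul, L.fix _ (smul_mem_fx hs.inv_right.symm h)
      (fun e => h1 (by rw [← e, smul_inv_smul])) (fun e => h2 (by rw [← e, smul_inv_smul])),
      smul_inv_smul]

omit [Finite G] [DecidableEq Ω] in
theorem Lf.mul_x (xx : x * x = 1) {u : G} {a b : Ω} (L : Lf x u a b) : Lf x (u * x) a b := by
  refine ⟨?_, L.com.mul_right (Commute.refl x), L.ha, L.hb, L.ne, ?_, ?_, fun ω h h1 h2 => ?_⟩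
  · obtain ⟨k, hk⟩ := L.two
    refine ⟨k + 1, ?_⟩
    rw [L.com.symm.mul_pow, pow_succ 2 k, pow_mul, hk, one_pow, one_mul, mul_comm, pow_mul, sq, xx,
      one_pow]
  · rw [mul_smul, mem_fx.1 L.ha, L.ab]
  · rw [mul_smul, mem_fx.1 L.hb, L.ba]
  · rw [mul_smul, mem_fx.1 h, L.fix ω h h1 h2]

omit [Finite G] in
theorem of_four {s : G} (h2 : Two s) (hs : Commute x s)
    (h : (fx Ω x ∩ fx Ω s).card + 2 = (fx Ω x).card) :
    ∃ b c : Ω, Lf x s b c ∧ s • b ≠ b ∧ s • c ≠ c := by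
  have h1 := Finset.card_sdiff_add_card_inter (fx Ω x) (fx Ω s)
  obtain ⟨b, c, hbc, e⟩ := Finset.card_eq_two.1 (show (fx Ω x \ fx Ω s).card = 2 by omega)
  have hm : ∀ ω, ω ∈ fx Ω x ∧ s • ω ≠ ω ↔ ω = b ∨ ω = c := fun ω => by
    have : ω ∈ fx Ω x \ fx Ω s ↔ ω ∈ ({b, c} : Finset Ω) := by rw [e]
    simpa only [Finset.mem_sdiff, mem_fx (g := s), Finset.mem_insert, Finset.mem_singleton]
      using this
  have hb := (hm b).2 (Or.inl rfl)
  have hc := (hm c).2 (Or.inr rfl)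
  have mv : ∀ ω, ω ∈ fx Ω x ∧ s • ω ≠ ω → s • ω = b ∨ s • ω = c := fun ω hω =>
    (hm _).1 ⟨smul_mem_fx hs.symm hω.1, fun e => hω.2 (smul_left_cancel s e)⟩
  refine ⟨b, c, ⟨h2, hs, hb.1, hc.1, hbc, (mv b hb).resolve_left hb.2,
    (mv c hc).resolve_right hc.2, fun ω h h1 h2 => ?_⟩, hb.2, hc.2⟩
  by_contra hne
  exact ((hm ω).1 ⟨h, hne⟩).elim h1 h2

omit [Finite G] in
theorem two_of_mem (H : HX Ω x) {Q : Finset Ω} (hQ : Q.card = 4) {g : G} (hg : g ∈ Sy G Q) :
    Two g := by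
  obtain ⟨k, hk⟩ := H.pg Q hQ ⟨g, hg⟩
  exact ⟨k, congrArg Subtype.val hk⟩

omit [Finite G] [DecidableEq Ω] in
theorem two_x (H : HX Ω x) : Two x := ⟨1, by simpa [sq] using H.xx⟩

omit [Finite G] [DecidableEq Ω] in
theorem x_x (H : HX Ω x) (ω : Ω) : x • x • ω = ω := by rw [← mul_smul, H.xx, one_smul]

omit [DecidableEq Ω] in
theorem card_zp (H : HX Ω x) : Nat.card (Subgroup.zpowers x) = 2 := by
  rw [Nat.card_zpowers]
  exact orderOf_eq_prime (by rw [sq, H.xx]) H.x1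

omit [DecidableEq Ω] in
theorem mem_zp (H : HX Ω x) {v : G} (hv : v ∈ Subgroup.zpowers x) : v = 1 ∨ v = x := by
  classical
  obtain ⟨k, hk, e⟩ := Finset.mem_image.1 (mem_zpowers_iff_mem_range_orderOf.1 hv)
  rw [← Nat.card_zpowers, H.card_zp, Finset.mem_range] at hk
  interval_cases k
  · left; rw [← e, pow_zero]
  · right; rw [← e, pow_one]

/-- a 2-element fixing `fx x` -/
theorem ker (H : HX Ω x) {v : G} (h2 : Two v) (hv : v ∈ St G (fx Ω x)) : v = 1 ∨ v = x := by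
  obtain ⟨Q, hQ, hc⟩ := Finset.exists_subset_card_eq (show 4 ≤ (fx Ω x).card by rw [H.six]; omega)
  have hp : IsPGroup 2 ↥(Sy G Q ⊓ St G (fx Ω x)) := (H.pg Q hc).to_le inf_le_left
  have hx : x ∈ Sy G Q ⊓ St G (fx Ω x) :=
    ⟨mem_Sy_of (mem_St_iff.2 hQ) H.two_x, mem_St_iff.2 subset_rfl⟩
  have h1 := (H.h5 _ hp (fun e => H.x1 (by rwa [e, Subgroup.mem_bot] at hx)) (by
    have := Finset.card_le_card (le_St_iff.1 (inf_le_right : Sy G Q ⊓ St G (fx Ω x) ≤ _))
    rw [H.six] at this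
    omega)).1
  have h3 : Subgroup.zpowers x = Sy G Q ⊓ St G (fx Ω x) :=
    Subgroup.eq_of_le_of_card_ge (Subgroup.zpowers_le.2 hx) (by rw [h1, H.card_zp])
  refine H.mem_zp ?_
  rw [h3]
  exact ⟨mem_Sy_of (St_mono hQ hv) h2, hv⟩

omit [Finite G] in
theorem card_rest (H : HX Ω x) {u : G} {a b : Ω} (L : Lf x u a b) :
    (fx Ω x \ {a, b}).card = 4 := by
  rw [Finset.card_sdiff_of_subset (Finset.insert_subset L.ha
    (Finset.singleton_subset_iff.2 L.hb)), Finset.card_pair L.ne, H.six]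

omit [Finite G] in
theorem Lf.mem_St {u : G} {a b : Ω} (L : Lf x u a b) : u ∈ St G (fx Ω x \ {a, b}) := by
  intro ω hω
  simp only [Finset.mem_sdiff, Finset.mem_insert, Finset.mem_singleton, not_or] at hω
  exact L.fix ω hω.1 hω.2.1 hω.2.2

theorem lift_eq (H : HX Ω x) {u v : G} {a b : Ω} (L : Lf x u a b) (L' : Lf x v a b) :
    v = u ∨ v = u * x := by
  have h1 : u⁻¹ * v ∈ Sy G (fx Ω x \ {a, b}) := Subgroup.mul_mem _
    (Subgroup.inv_mem _ (mem_Sy_of L.mem_St L.two)) (mem_Sy_of L'.mem_St L'.two)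
  rcases H.ker (H.two_of_mem (H.card_rest L) h1) (fun ω hω => by
    rw [mul_smul, inv_smul_eq_iff]
    by_cases ha : ω = a
    · rw [ha, L.ab, L'.ab]
    by_cases hb : ω = b
    · rw [hb, L.ba, L'.ba]
    rw [L.fix ω hω ha hb, L'.fix ω hω ha hb]) with h | h
  · exact Or.inl (inv_mul_eq_one.1 h).symm
  · exact Or.inr (inv_mul_eq_iff_eq_mul.1 h)

omit [Finite G] [DecidableEq Ω] in
theorem off_mem {s : G} (hs : Commute x s) {α : Ω} (hα : α ∉ fx Ω x) : s • α ∉ fx Ω x :=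
  fun h => hα (by simpa using smul_mem_fx hs.inv_right.symm h)

omit [Finite G] in
theorem off (H : HX Ω x) {u : G} {a b α β : Ω} (L : Lf x u a b) (hα : α ∉ fx Ω x)
    (h : u • α = α) (hβ : β ∉ fx Ω x) (h' : u • β = β) : β = α ∨ β = x • α := by
  by_contra hne
  rw [not_or] at hne
  have hp : IsPGroup 2 (Subgroup.zpowers u) := by
    obtain ⟨k, hk⟩ := L.two
    rintro ⟨y, m, rfl⟩
    refine ⟨k, Subtype.ext ?_⟩
    show (u ^ m) ^ 2 ^ k = 1
    rw [← zpow_natCast, ← zpow_mul, mul_comm, zpow_mul, zpow_natCast, hk, one_zpow]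
  have hxα := off_mem (Commute.refl x) hα
  have hsub : insert β (insert (x • α) (insert α (fx Ω x \ {a, b}))) ⊆ fx Ω u :=
    Finset.insert_subset (mem_fx.2 h') (Finset.insert_subset (smul_mem_fx L.com (mem_fx.2 h))
      (Finset.insert_subset (mem_fx.2 h) (mem_St_iff.1 L.mem_St)))
  have hc := Finset.card_le_card hsub
  rw [Finset.card_insert_of_notMem (by
      simp only [Finset.mem_insert, Finset.mem_sdiff, not_or]
      exact ⟨hne.2, hne.1, fun e => hβ e.1⟩),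
    Finset.card_insert_of_notMem (by
      simp only [Finset.mem_insert, Finset.mem_sdiff, not_or]
      exact ⟨fun e => hα (mem_fx.2 e), fun e => hxα e.1⟩),
    Finset.card_insert_of_notMem (fun e => hα (Finset.mem_sdiff.1 e).1), H.card_rest L] at hc
  have := (H.h5 _ hp (fun e => L.ne (by
    rw [← L.ab, Subgroup.zpowers_eq_bot.1 e, one_smul])) (by rw [Fx_zpowers]; omega)).2
  rw [Fx_zpowers] at this
  omega

omit [Finite G] in
theorem off_le (H : HX Ω x) {u : G} {a b : Ω} (L : Lf x u a b) : (fx Ω u \ fx Ω x).card ≤ 2 := by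
  rcases (fx Ω u \ fx Ω x).eq_empty_or_nonempty with e | ⟨α, hα⟩
  · rw [e]; simp
  · refine le_trans (Finset.card_le_card (t := {α, x • α}) fun β hβ => ?_) Finset.card_le_two
    rw [Finset.mem_sdiff] at hα hβ
    simpa using H.off L hα.2 (mem_fx.1 hα.1) hβ.2 (mem_fx.1 hβ.1)

/-- step (1) -/
theorem exists_s (H : HX Ω x) {α γ δ : Ω} (hα : α ∉ fx Ω x) (hγ : γ ∈ fx Ω x) (hδ : δ ∈ fx Ω x)
    (hne : γ ≠ δ) : ∃ s : G, Commute x s ∧ s • α = α ∧ s • γ = γ ∧ s • δ = δ ∧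
      ∀ ε ∈ fx Ω x, ε ≠ γ → ε ≠ δ → s • ε = ε → ∃ b c : Ω, Lf x s b c ∧ s • b ≠ b ∧ s • c ≠ c := by
  have hβ := off_mem (Commute.refl x) hα
  have D : D4 α (x • α) γ δ := ⟨fun h => hα (mem_fx.2 h.symm), fun h => hα (h ▸ hγ),
    fun h => hα (h ▸ hδ), fun h => hβ (h ▸ hγ), fun h => hβ (h ▸ hδ), hne⟩
  have hs : x • ({α, x • α, γ, δ} : Finset Ω) = {α, x • α, γ, δ} := by
    refine smul_eq_of_maps fun ω hω => ?_
    simp only [Finset.mem_insert, Finset.mem_singleton] at hω ⊢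
    rcases hω with rfl | rfl | rfl | rfl
    · simp
    · simp [H.x_x]
    · simp [mem_fx.1 hγ]
    · simp [mem_fx.1 hδ]
  obtain ⟨s, hsS, hs1, hss, hxs, -⟩ := exists_cent_inv (H.pg _ D.card) (H.ne _ D.card)
    H.two_x (norm_Sy hs)
  have hst := Sy_le _ hsS
  have h2 : Two s := ⟨1, by simpa [sq] using hss⟩
  refine ⟨s, hxs, hst α (by simp), hst γ (by simp), hst δ (by simp), fun ε hε n1 n2 hsε => ?_⟩
  refine of_four h2 hxs ?_
  have h1 := card_fx_mod (F := fx Ω x) Nat.prime_two (k := 1) (g := s)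
    (by rw [pow_one, sq, hss]; exact Subgroup.one_mem _) (fun _ hω => smul_mem_fx hxs.symm hω)
  have h3 : ({ε, γ, δ} : Finset Ω) ⊆ fx Ω x ∩ fx Ω s := by
    intro ω hω
    simp only [Finset.mem_insert, Finset.mem_singleton] at hω
    rcases hω with rfl | rfl | rfl
    · exact Finset.mem_inter.2 ⟨hε, mem_fx.2 hsε⟩
    · exact Finset.mem_inter.2 ⟨hγ, mem_fx.2 (hst _ (by simp))⟩
    · exact Finset.mem_inter.2 ⟨hδ, mem_fx.2 (hst _ (by simp))⟩
  have h4 := Finset.card_le_card h3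
  rw [Finset.card_insert_of_notMem (by simp [n1, n2]), Finset.card_pair hne] at h4
  have h5 : (fx Ω x ∩ fx Ω s).card < (fx Ω x).card := by
    refine Finset.card_lt_card ⟨Finset.inter_subset_left, fun h => ?_⟩
    rcases H.ker h2 (mem_St_iff.2 (h.trans Finset.inter_subset_right)) with e | e
    · exact hs1 e
    · exact hα (mem_fx.2 (e ▸ hst α (by simp)))
  rw [H.six] at h1 h5 ⊢
  unfold Nat.ModEq at h1
  omega

/-- step (2) -/
theorem share (H : HX Ω x) {u v : G} {a b c α : Ω} (L : Lf x u a b) (L' : Lf x v a c)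
    (hα : α ∉ fx Ω x) (hu : u • α = α) (hv : v • α = α) : b = c := by
  by_contra hne
  have hQ : (insert α (fx Ω x \ {a, b, c})).card = 4 := by
    rw [Finset.card_insert_of_notMem (fun e => hα (Finset.mem_sdiff.1 e).1),
      Finset.card_sdiff_of_subset (Finset.insert_subset L.ha (Finset.insert_subset L.hb
        (Finset.singleton_subset_iff.2 L'.hb))),
      Finset.card_insert_of_notMem (by simp [L.ne, L'.ne]), Finset.card_pair hne, H.six]
  have hm : ∀ w : G, Two w → w • α = α → (∀ ω ∈ fx Ω x, ω ≠ a → ω ≠ b → ω ≠ c → w • ω = ω) →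
      w ∈ Sy G (insert α (fx Ω x \ {a, b, c})) := by
    intro w h2 h1 h
    refine mem_Sy_of (fun ω hω => ?_) h2
    simp only [Finset.mem_insert, Finset.mem_sdiff, Finset.mem_singleton, not_or] at hω
    rcases hω with rfl | ⟨h3, h4, h5, h6⟩
    · exact h1
    · exact h ω h3 h4 h5 h6
  obtain ⟨n, hn⟩ := (H.pg _ hQ).exists_card_eq
  refine notMem_of_cyc3 (K := Sy G (insert α (fx Ω x \ {a, b, c}))) (g := u * v) (a := a) (b := c)
    (c := b) (fun h => ?_) L'.ne ?_ ?_ ?_ (Subgroup.mul_mem _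
      (hm u L.two hu fun ω h h1 h2 _ => L.fix ω h h1 h2)
      (hm v L'.two hv fun ω h h1 _ h3 => L'.fix ω h h1 h3))
  · have := Nat.prime_three.dvd_of_dvd_pow (hn ▸ h)
    omega
  · rw [mul_smul, L'.ab, L.fix c L'.hb L'.ne.symm (Ne.symm hne)]
  · rw [mul_smul, L'.ba, L.ab]
  · rw [mul_smul, L'.fix b L.hb L.ne.symm hne, L.ba]

/-- step (3) -/
theorem step3 (H : HX Ω x) {u : G} {d e α a : Ω} (L : Lf x u d e) (hα : α ∉ fx Ω x)
    (hu : u • α = α) (ha : a ∈ fx Ω x) (h1 : a ≠ d) (h2 : a ≠ e) :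
    ∃ (s : G) (b c : Ω), Lf x s b c ∧ s • α = α ∧ b ≠ a ∧ b ≠ d ∧ b ≠ e ∧ c ≠ a ∧ c ≠ d ∧
      c ≠ e := by
  obtain ⟨s, hs, sα, sa, sd, h⟩ := H.exists_s hα ha L.ha h1
  have L' := L.conj hs
  rw [sd] at L'
  have se : e = s • e := H.share L L' hα hu (by
    rw [mul_smul, mul_smul, inv_smul_eq_iff.2 sα.symm, hu, sα])
  obtain ⟨b, c, Ls, hb, hc⟩ := h e L.hb h2.symm L.ne.symm se.symm
  exact ⟨s, b, c, Ls, sα, fun e => hb (e ▸ sa), fun e => hb (e ▸ sd), fun e => hb (e ▸ se.symm),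
    fun e => hc (e ▸ sa), fun e => hc (e ▸ sd), fun e => hc (e ▸ se.symm)⟩

/-- step (4) -/
theorem no_cross (H : HX Ω x) {u ua uc : G} {a a' b c c' α : Ω} (L : Lf x u a b)
    (La : Lf x ua a a') (Lc : Lf x uc c c') (hα : α ∉ fx Ω x) (ha : ua • α = α) (hc : uc • α = α)
    (n1 : b ≠ a') (n2 : b ≠ c) (n3 : b ≠ c') (n4 : a ≠ c) (n5 : a ≠ c') (n6 : a' ≠ c)
    (n7 : a' ≠ c') : False := by
  obtain ⟨s, hs⟩ : ∃ s, s = u * ua := ⟨_, rfl⟩
  have xs : Commute x s := hs ▸ L.com.mul_right La.com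
  have sa : s • a = a' := by rw [hs, mul_smul, La.ab, L.fix a' La.hb La.ne.symm n1.symm]
  have sa' : s • a' = b := by rw [hs, mul_smul, La.ba, L.ab]
  have sb : s • b = a := by rw [hs, mul_smul, La.fix b L.hb L.ne.symm n1, L.ba]
  have sc : s • c = c := by
    rw [hs, mul_smul, La.fix c Lc.ha n4.symm n6.symm, L.fix c Lc.ha n4.symm n2.symm]
  have sc' : s • c' = c' := by
    rw [hs, mul_smul, La.fix c' Lc.hb n5.symm n7.symm, L.fix c' Lc.hb n5.symm n3.symm]
  have L1 := Lc.conj xs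
  rw [sc, sc'] at L1
  have h2 : Commute (s * s) uc := by
    refine mul_inv_eq_iff_eq_mul.1 ?_
    rcases H.lift_eq Lc L1 with h | h
    · calc s * s * uc * (s * s)⁻¹ = s * (s * uc * s⁻¹) * s⁻¹ := by group
        _ = uc := by rw [h, h]
    · calc s * s * uc * (s * s)⁻¹ = s * (s * uc * s⁻¹) * s⁻¹ := by group
        _ = s * (uc * x) * s⁻¹ := by rw [h]
        _ = s * uc * s⁻¹ * (s * x * s⁻¹) := by group
        _ = uc := by rw [h, ← xs.eq, mul_inv_cancel_right, mul_assoc, H.xx, mul_one]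
  have xs2 : Commute x (s * s) := xs.mul_right xs
  have h4 : (s * s * (s * s)) • α = α := by
    rcases H.off Lc hα hc (off_mem xs2 hα) (mem_fx.1 (smul_mem_fx h2 (mem_fx.2 hc))) with h | h
    · rw [mul_smul, h, h]
    · rw [mul_smul, h, ← mul_smul, ← xs2.eq, mul_smul, h, H.x_x]
  have L2 := La.conj (xs2.mul_right xs2)
  simp only [mul_smul, sa, sa', sb] at L2
  exact L.ne (H.share La.symm L2 hα ha (by
    rw [mul_smul, mul_smul, inv_smul_eq_iff.2 h4.symm, ha, h4]))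

theorem partner (H : HX Ω x) {ua ub uc : G} {a a' b b' c c' α : Ω}
    (La : Lf x ua a a') (Lb : Lf x ub b b') (Lc : Lf x uc c c') (hα : α ∉ fx Ω x)
    (ha : ua • α = α) (hb : ub • α = α) (hc : uc • α = α)
    (ab : a ≠ b ∧ a ≠ b' ∧ a' ≠ b ∧ a' ≠ b') (ac : a ≠ c ∧ a ≠ c' ∧ a' ≠ c ∧ a' ≠ c')
    (bc : b ≠ c ∧ b ≠ c' ∧ b' ≠ c ∧ b' ≠ c') {s : G} (hs : Commute x s) (sa : s • a = a) :
    s • a' = a' := by
  have L := La.conj hs
  rw [sa] at L
  by_contra hne
  by_cases h : s • a' = c ∨ s • a' = c'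
  · refine H.no_cross L La Lb hα ha hb hne ?_ ?_ ab.1 ab.2.1 ab.2.2.1 ab.2.2.2
    · rcases h with h | h <;> rw [h]
      · exact bc.1.symm
      · exact bc.2.1.symm
    · rcases h with h | h <;> rw [h]
      · exact bc.2.2.1.symm
      · exact bc.2.2.2.symm
  · rw [not_or] at h
    exact H.no_cross L La Lc hα ha hc hne h.1 h.2 ac.1 ac.2.1 ac.2.2.1 ac.2.2.2

theorem final (H : HX Ω x) {ua : G} {a a' α : Ω} (La : Lf x ua a a') (hα : α ∉ fx Ω x)
    (ha : ua • α = α) : False := by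
  have : Fact (Nat.Prime 2) := ⟨Nat.prime_two⟩
  obtain ⟨z, hz, hz'⟩ : ∃ z ∈ fx Ω x, z ∉ ({a, a'} : Finset Ω) :=
    Finset.exists_mem_notMem_of_card_lt_card (by rw [Finset.card_pair La.ne, H.six]; omega)
  simp only [Finset.mem_insert, Finset.mem_singleton, not_or] at hz'
  obtain ⟨ub, b, b', Lb, hb, -, n1, n2, -, n3, n4⟩ := H.step3 La hα ha hz hz'.1 hz'.2
  obtain ⟨uc, c, c', Lc, hc, m1, m2, m3, m4, m5, m6⟩ := H.step3 La hα ha Lb.ha n1 n2
  have m7 : c ≠ b' := by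
    rintro rfl
    exact m4 (H.share Lc Lb.symm hα hc hb)
  have m8 : c' ≠ b' := by
    rintro rfl
    exact m1 (H.share Lc.symm Lb.symm hα hc hb)
  have ab : a ≠ b ∧ a ≠ b' ∧ a' ≠ b ∧ a' ≠ b' := ⟨n1.symm, n3.symm, n2.symm, n4.symm⟩
  have ac : a ≠ c ∧ a ≠ c' ∧ a' ≠ c ∧ a' ≠ c' := ⟨m2.symm, m5.symm, m3.symm, m6.symm⟩
  have bc : b ≠ c ∧ b ≠ c' ∧ b' ≠ c ∧ b' ≠ c' := ⟨m1.symm, m4.symm, m7.symm, m8.symm⟩
  have pa : ∀ s : G, Commute x s → s • a = a → s • a' = a' :=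
    fun s => H.partner La Lb Lc hα ha hb hc ab ac bc
  have pb : ∀ s : G, Commute x s → s • b = b → s • b' = b' :=
    fun s => H.partner Lb La Lc hα hb ha hc ⟨n1, n2, n3, n4⟩ bc ac
  have pc : ∀ s : G, Commute x s → s • c = c → s • c' = c' :=
    fun s => H.partner Lc La Lb hα hc ha hb ⟨m2, m3, m5, m6⟩ ⟨m1, m7, m4, m8⟩ ab
  have hF : ∀ ω ∈ fx Ω x, ω = a ∨ ω = a' ∨ ω = b ∨ ω = b' ∨ ω = c ∨ ω = c' := by
    have h1 : ({a, a', b, b', c, c'} : Finset Ω) ⊆ fx Ω x := by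
      simp only [Finset.insert_subset_iff, Finset.singleton_subset_iff]
      exact ⟨La.ha, La.hb, Lb.ha, Lb.hb, Lc.ha, Lc.hb⟩
    have h2 : ({a, a', b, b', c, c'} : Finset Ω).card = 6 := by
      rw [Finset.card_insert_of_notMem (by simp [La.ne, ab, ac]),
        Finset.card_insert_of_notMem (by simp [ab, ac]),
        Finset.card_insert_of_notMem (by simp [Lb.ne, bc]),
        Finset.card_insert_of_notMem (by simp [bc]), Finset.card_pair Lc.ne]
    intro ω hω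
    rw [← Finset.eq_of_subset_of_card_le h1 (by rw [h2, H.six])] at hω
    simpa using hω
  -- step (5)
  have hcov : Finset.univ \ fx Ω x ⊆ (fx Ω uc \ fx Ω x) ∪ (fx Ω (uc * x) \ fx Ω x) := by
    intro β hβ
    have hβ' := (Finset.mem_sdiff.1 hβ).2
    obtain ⟨s, hs, sβ, sa, sb, h⟩ := H.exists_s hβ' La.ha Lb.ha ab.1
    have sa' := pa s hs sa
    have sb' := pb s hs sb
    obtain ⟨p, q, L, hp, hq⟩ := h a' La.hb La.ne.symm ab.2.2.1 sa'
    have hm : ∀ ω ∈ fx Ω x, s • ω ≠ ω → ω = c ∨ ω = c' := by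
      intro ω hω hne
      rcases hF ω hω with rfl | rfl | rfl | rfl | h
      · exact absurd sa hne
      · exact absurd sa' hne
      · exact absurd sb hne
      · exact absurd sb' hne
      · exact h
    have L' : Lf x s c c' := by
      rcases hm p L.ha hp with rfl | rfl <;> rcases hm q L.hb hq with rfl | rfl
      · exact absurd rfl L.ne
      · exact L
      · exact L.symm
      · exact absurd rfl L.ne
    rw [Finset.mem_union, Finset.mem_sdiff, Finset.mem_sdiff, mem_fx, mem_fx (g := uc * x)]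
    rcases H.lift_eq Lc L' with e | e
    · exact Or.inl ⟨e ▸ sβ, hβ'⟩
    · exact Or.inr ⟨e ▸ sβ, hβ'⟩
  have hle := (Finset.card_le_card hcov).trans (Finset.card_union_le _ _)
  have o1 := H.off_le Lc
  have o2 := H.off_le (Lc.mul_x H.xx)
  have hpos : 0 < (Finset.univ \ fx Ω x).card :=
    Finset.card_pos.2 ⟨α, Finset.mem_sdiff.2 ⟨Finset.mem_univ _, hα⟩⟩
  have hsum := Finset.card_sdiff_add_card_eq_card (Finset.subset_univ (fx Ω x))
  have hev := card_fx_mod (F := (Finset.univ : Finset Ω)) Nat.prime_two (k := 1) (g := x)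
    (by rw [pow_one, sq, H.xx]; exact Subgroup.one_mem _) (fun _ _ => Finset.mem_univ _)
  rw [Finset.univ_inter] at hev
  unfold Nat.ModEq at hev
  rw [H.six] at hsum hev
  -- step (6)
  have ht : ({a, b, c} : Finset Ω).card = 3 := by
    rw [Finset.card_insert_of_notMem (by simp [ab, ac]), Finset.card_pair bc.1]
  have hxt : Subgroup.zpowers x ≤ St G ({a, b, c} : Finset Ω) := by
    rw [Subgroup.zpowers_le, mem_St_iff]
    simp only [Finset.insert_subset_iff, Finset.singleton_subset_iff]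
    exact ⟨La.ha, Lb.ha, Lc.ha⟩
  have hxp : IsPGroup 2 (Subgroup.zpowers x) := IsPGroup.of_card (n := 1) H.card_zp
  have hmax : ∀ B : Subgroup G, B ≤ St G ({a, b, c} : Finset Ω) → IsPGroup 2 B →
      Subgroup.zpowers x ≤ B → B ≤ Subgroup.zpowers x := by
    intro B hB hBp hxB
    by_contra hne
    obtain ⟨v, hv, hvx, hvn, -⟩ := exists_norm_two hBp hxB (fun e => hne e.ge)
    have hc : Commute x v := by
      rcases H.mem_zp ((Subgroup.mem_normalizer_iff.1 hvn x).1 (Subgroup.mem_zpowers x)) with e | e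
      · exact absurd (conj_eq_one_iff.1 e) H.x1
      · exact (mul_inv_eq_iff_eq_mul.1 e).symm
    have va := hB hv a (by simp)
    have vb := hB hv b (by simp)
    have vc := hB hv c (by simp)
    obtain ⟨k, hk⟩ := hBp ⟨v, hv⟩
    rcases H.ker ⟨k, congrArg Subtype.val hk⟩ (fun ω hω => by
      rcases hF ω hω with rfl | rfl | rfl | rfl | rfl | rfl
      · exact va
      · exact pa v hc va
      · exact vb
      · exact pb v hc vb
      · exact vc
      · exact pc v hc vc) with e | e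
    · exact hvx (by rw [show v = 1 from e]; exact Subgroup.one_mem _)
    · exact hvx (by rw [show v = x from e]; exact Subgroup.mem_zpowers x)
  have hins : ∀ l, l ∉ ({a, b, c} : Finset Ω) → (insert l ({a, b, c} : Finset Ω)).card = 4 :=
    fun l hl => by rw [Finset.card_insert_of_notMem hl, ht]
  have hS : ∀ l, l ∉ ({a, b, c} : Finset Ω) → Nat.card (Sy G (insert l ({a, b, c} : Finset Ω))) = 2 ∧
      (Fx Ω (Sy G (insert l ({a, b, c} : Finset Ω)))).card = 6 := by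
    intro l hl
    refine H.h5 _ (H.pg _ (hins l hl)) (H.ne _ (hins l hl)) ?_
    obtain ⟨g, -, hg⟩ := conj_into_max Nat.prime_two hxt hxp hmax
      ((Sy_le _).trans (St_mono (Finset.subset_insert l _))) (H.pg _ (hins l hl))
    have := Finset.card_le_card (Fx_anti (Ω := Ω) hg)
    rw [Fx_zpowers, H.six, Fx_cj, Finset.card_smul_finset] at this
    omega
  have hd := part_dvd (D := Finset.univ \ ({a, b, c} : Finset Ω)) (r := 3)
    (fun l => Fx Ω (Sy G (insert l ({a, b, c} : Finset Ω))) \ {a, b, c})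
    (fun l hl => Finset.mem_sdiff.2 ⟨sub_Fx_Sy _ (Finset.mem_insert_self _ _),
      (Finset.mem_sdiff.1 hl).2⟩)
    (fun l _ => Finset.sdiff_subset_sdiff (Finset.subset_univ _) subset_rfl)
    (fun l hl => by
      rw [Finset.card_sdiff_of_subset ((Finset.subset_insert l _).trans (sub_Fx_Sy _)),
        (hS l (Finset.mem_sdiff.1 hl).2).2, ht])
    (fun l hl m hm => by
      obtain ⟨h1, h2⟩ := Finset.mem_sdiff.1 hm
      have hl' := (Finset.mem_sdiff.1 hl).2
      have e : Sy G (insert l ({a, b, c} : Finset Ω)) = Sy G (insert m ({a, b, c} : Finset Ω)) :=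
        Subgroup.eq_of_le_of_card_ge (le_Sy (H.pg _ (hins l hl')) (le_St_iff.2
          (Finset.insert_subset h1 ((Finset.subset_insert l _).trans (sub_Fx_Sy _)))))
          (by rw [(hS l hl').1, (hS m h2).1])
      simp only [e])
  rw [Finset.card_sdiff_of_subset (Finset.subset_univ _), ht] at hd
  omega

end HX

/-- `F = fx x` (six points), `C = C(x)`.  An *edge* is a pair `a ≠ b` in `F` with a 2-element `u ∈ C`
(a *lift*) that swaps `a, b` and fixes the four other points `Q'` of `F`.  `D = C ⊓ Sy Q'` acts on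
`{a, b}` with kernel `⟨x⟩` (`h5`), so the lifts are exactly `u`, `u x`.  A lift fixing a point `α ∉ F`
is an involution with `fx u = Q' ∪ {α, xα}` (`h5`); call the edge an `α`-edge.
(1) `α ∉ F`, `γ ≠ δ ∈ F`: `x` commutes with an involution `s ∈ Sy {α, xα, γ, δ}` (`norm_Sy`,
`exists_cent_inv`); `|F ∩ fx s|` is even and `≠ 6` (else eight fixed points): 2 or 4.
(2) Two `α`-edges do not share exactly one point: lifts of `ab`, `bc` lie in `Sy {α, xα, d, e}`, their
product is a 2-element with the cycle `(a b c)`.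
(3) If `de` is an `α`-edge then every point lies on an `α`-edge: for `a ∉ {d,e}` take `s` of (1) for
`a, d`; conjugating the lift by `s` gives the `α`-edge `{d, s e}`, so `s e = e`, `s` fixes four points
and is the lift of an `α`-edge `bc` off `{a,d,e}`; repeat with `b`: an `α`-edge off `{b,d,e}`, not
through `c` by (2), so `af`.  By hypothesis `y` is the lift of an `α₀`-edge; let `M` be this matching.
(4) Every edge is in `M`.  Else `ab` is an edge, `M = {aa', bb', cc'}`; `s = u u_a` is a 3-cycle on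
`a, a', b`, stabilises `F \ {c, c'}`, so permutes the two lifts of `cc'`; `s²` commutes with `u_c`,
`s⁴` fixes `α₀`; conjugating `u_a` by `s⁴` gives an `α₀`-edge meeting `aa'` in one point.
(5) `C` permutes the edges `12, 34, 56`.  For any `α ∉ F`, `s` of (1) for `γ, δ = 1, 3` fixes `2, 4`, so
is one of the two lifts of `56`; each fixes at most two points off `F`; `|Ω| ≡ 6 (mod 2)`, `≥ 8`:
`|Ω| ∈ {8, 10}`.
(6) `t = {1,3,5}`: `⟨x⟩` is a maximal 2-subgroup of `St t` (else `exists_norm_two` gives `v ∉ ⟨x⟩`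
centralising `x`, fixing `t`, hence `F`; `h5`).  For `λ ∉ t`, `Sy (insert λ t)` is conjugate into
`⟨x⟩` (`conj_into_max`): order two, six fixed points.  The sets `Fx (Sy (insert λ t)) \ t` partition
`Ω \ t` into triples (`part_dvd`): `3 ∣ 5` or `3 ∣ 7`. -/
theorem hex (pg : ∀ Q : Finset Ω, Q.card = 4 → IsPGroup 2 (Sy G Q))
    (ne : ∀ Q : Finset Ω, Q.card = 4 → Sy G Q ≠ ⊥)
    (h5 : ∀ T : Subgroup G, IsPGroup 2 T → T ≠ ⊥ → 5 ≤ (Fx Ω T).card →
      Nat.card T = 2 ∧ (Fx Ω T).card = 6)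
    {x y : G} (hx1 : x ≠ 1) (hx : x * x = 1) (hy1 : y ≠ 1) (hy : y * y = 1) (hxy : Commute x y)
    (fx6 : (fx Ω x).card = 6) (fy6 : (fx Ω y).card = 6)
    (h4 : (fx Ω x ∩ fx Ω y).card = 4) : False := by
  have H : HX Ω x := ⟨pg, ne, h5, hx1, hx, fx6⟩
  have _ := hy1
  obtain ⟨d, e, Ly, -, -⟩ := HX.of_four (x := x) ⟨1, by simpa [sq] using hy⟩ hxy
    (by rw [fx6, h4])
  obtain ⟨α, hα⟩ : (fx Ω y \ fx Ω x).Nonempty := by
    rw [← Finset.card_pos]
    have := Finset.card_sdiff_add_card_inter (fx Ω y) (fx Ω x)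
    rw [Finset.inter_comm] at this
    omega
  exact H.final Ly (Finset.mem_sdiff.1 hα).2 (mem_fx.1 (Finset.mem_sdiff.1 hα).1)

end CL.F4
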