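import Cfsg.Agent.PERM.F4.LemE

/-!
S3404: normal Sylow 2-subgroups of four-point stabilisers that are semiregular elsewhere.
-/

set_option autoImplicit false

namespace CL.F4

open scoped Pointwise

variable {G Ω : Type*} [Group G] [Finite G] [MulAction G Ω] [Fintype Ω] [DecidableEq Ω]

omit [Fintype Ω] [DecidableEq Ω] [MulAction G Ω] in
/-- fixed points of a `p`-element acting by conjugation -/
theorem card_cent_mod {p k : ℕ} (hp : p.Prime) {g : G} (hk : g ^ p ^ k = 1) {A : Subgroup G}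
    (hn : ∀ a ∈ A, g * a * g⁻¹ ∈ A) :
    Nat.card A ≡ Nat.card ↥(A ⊓ Subgroup.centralizer ({g} : Set G)) [MOD p] := by
  classical
  have := Fact.mk hp
  have := Fintype.ofFinite A
  let f : Function.End A := fun x => ⟨g * x.1 * g⁻¹, hn x.1 x.2⟩
  have hf : ∀ (m : ℕ) (x : A), (((f ^ m) x : A) : G) = g ^ m * (x : G) * (g ^ m)⁻¹ := by
    intro m
    induction m with
    | zero => intro x; rw [pow_zero, pow_zero, inv_one, one_mul, mul_one]; rfl
    | succ m ih =>
      intro x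
      rw [pow_succ, pow_succ]
      refine (ih (f x)).trans ?_
      show g ^ m * (g * x.1 * g⁻¹) * (g ^ m)⁻¹ = _
      group
  have h1 : f ^ p ^ k = 1 := by
    funext x
    refine Subtype.ext ((hf _ x).trans ?_)
    rw [hk, inv_one, one_mul, mul_one]; rfl
  have h2 := Equiv.Perm.card_fixedPoints_modEq h1
  have e : Fintype.card (Function.fixedPoints f) =
      Nat.card ↥(A ⊓ Subgroup.centralizer ({g} : Set G)) := by
    rw [← Nat.card_eq_fintype_card]
    refine Nat.card_congr ⟨fun y => ⟨y.1.1, y.1.2, Subgroup.mem_centralizer_singleton_iff.2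
      (mul_inv_eq_iff_eq_mul.1 (congrArg Subtype.val y.2 : g * y.1.1 * g⁻¹ = y.1.1)).symm⟩,
      fun y => ⟨⟨y.1, y.2.1⟩, Subtype.ext (mul_inv_eq_iff_eq_mul.2
        (Subgroup.mem_centralizer_singleton_iff.1 y.2.2).symm)⟩, fun _ => rfl, fun _ => rfl⟩
  rwa [e, ← Nat.card_eq_fintype_card] at h2

omit [Fintype Ω] [DecidableEq Ω] [MulAction G Ω] in
/-- the elements of odd order form a subgroup if all 2-elements are central -/
theorem exists_odd_part {D : Subgroup G} (h : ∀ g ∈ D, Two g → ∀ d ∈ D, Commute d g) :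
    ∃ U : Subgroup G, Odd (Nat.card U) ∧ ∀ g, g ∈ U ↔ g ∈ D ∧ Odd (orderOf g) := by
  obtain ⟨P⟩ : Nonempty (Sylow 2 D) := inferInstance
  have hP : Subgroup.normalizer ((P : Subgroup D) : Set D) ≤
      Subgroup.centralizer ((P : Subgroup D) : Set D) := by
    intro d _ g hg
    obtain ⟨k, hk⟩ := P.isPGroup' ⟨g, hg⟩
    exact Subtype.ext (h g g.2 ⟨k, congrArg (fun z : (P : Subgroup D) => ((z : D) : G)) hk⟩
      d d.2).eq.symm
  have ho : Odd (Nat.card ((MonoidHom.transferSylow P hP).ker.map D.subtype)) := by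
    rw [Subgroup.card_map_of_injective D.subtype_injective, ← Nat.not_even_iff_odd,
      even_iff_two_dvd]
    exact MonoidHom.not_dvd_card_ker_transferSylow P hP
  refine ⟨_, ho, fun g => ⟨fun hg => ⟨Subgroup.map_subtype_le _ hg,
    ho.of_dvd_nat (Subgroup.orderOf_dvd_natCard _ hg)⟩, fun ⟨hg, hgo⟩ => ⟨⟨g, hg⟩, ?_, rfl⟩⟩⟩
  obtain ⟨k, hk⟩ := P.isPGroup' (MonoidHom.transferSylow P hP ⟨g, hg⟩)
  have h1 : orderOf (MonoidHom.transferSylow P hP ⟨g, hg⟩) ∣ orderOf g := by
    rw [← Subgroup.orderOf_mk g hg]; exact orderOf_map_dvd _ _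
  exact orderOf_eq_one_iff.1 (Nat.eq_one_of_dvd_coprimes
    ((Nat.coprime_two_left.2 hgo).pow_left k) (orderOf_dvd_of_pow_eq_one hk) h1)

omit [Fintype Ω] [DecidableEq Ω] [MulAction G Ω] in
/-- an element that is no 2-element has a power of odd prime order -/
theorem exists_odd_pow {g : G} (h : ¬ Two g) :
    ∃ j p : ℕ, p.Prime ∧ p ≠ 2 ∧ orderOf (g ^ j) = p := by
  have hpos : orderOf g ≠ 0 := (orderOf_pos g).ne'
  by_contra hne
  push Not at hne
  refine h ⟨_, orderOf_dvd_iff_pow_eq_one.1 (Nat.eq_prime_pow_of_unique_prime_dvd hpos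
    (p := 2) fun {d} hd hdvd => ?_).dvd⟩
  by_contra h2
  exact hne _ d hd h2 (orderOf_pow_orderOf_div hpos hdvd)

omit [Fintype Ω] [DecidableEq Ω] in
/-- an element of odd order whose square fixes a point fixes it -/
theorem fix_of_odd {u : G} (hu : Odd (orderOf u)) {α : Ω} (h : u • u • α = α) : u • α = α := by
  obtain ⟨k, hk⟩ := hu
  have h1 : u * u ∈ MulAction.stabilizer G α := by rw [MulAction.mem_stabilizer_iff, mul_smul, h]
  have h2 : u = ((u * u) ^ k)⁻¹ := by
    rw [eq_inv_iff_mul_eq_one, ← sq, ← pow_mul, ← pow_succ', ← hk, pow_orderOf_eq_one]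
  rw [← MulAction.mem_stabilizer_iff, h2]
  exact Subgroup.inv_mem _ (Subgroup.pow_mem _ h1 k)

omit [Finite G] in
theorem inv_erase (a : Ω) : Inv (St G ({a} : Finset Ω)) (Finset.univ.erase a) := by
  intro g hg ω hω
  refine Finset.mem_erase.2 ⟨fun e => (Finset.mem_erase.1 hω).1 ?_, Finset.mem_univ _⟩
  rw [← hg a (Finset.mem_singleton_self a), smul_left_cancel_iff] at e
  exact e

omit [Finite G] in
theorem eq_one_of_erase [FaithfulSMul G Ω] {a : Ω} {g : G} (h1 : g ∈ St G ({a} : Finset Ω))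
    (h2 : g ∈ St G (Finset.univ.erase a)) : g = 1 := by
  refine eq_of_smul_eq_smul (α := Ω) fun ω => ?_
  rw [one_smul]
  by_cases h : ω = a
  · exact h1 ω (Finset.mem_singleton.2 h)
  · exact h2 ω (Finset.mem_erase.2 ⟨h, Finset.mem_univ _⟩)

variable (G Ω) in
/-- the hypotheses of `semi` -/
structure SH : Prop where
  tr : Tr4 (⊤ : Subgroup G) (Finset.univ : Finset Ω)
  h5 : 5 ≤ Fintype.card Ω
  pg : ∀ Q : Finset Ω, Q.card = 4 → IsPGroup 2 (Sy G Q)
  ne : ∀ Q : Finset Ω, Q.card = 4 → Sy G Q ≠ ⊥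
  sr : ∀ Q : Finset Ω, Q.card = 4 → ∀ x ∈ Sy G Q, x ≠ 1 → fx Ω x = Q
  cf : ∀ Q : Finset Ω, Q.card = 4 → ∀ g ∈ St G Q, ∀ p : ℕ, p.Prime → p ≠ 2 → orderOf g = p →
      (∀ x ∈ Sy G Q, Commute g x) ∨ ∀ x ∈ Sy G Q, Commute g x → x = 1

namespace SH

theorem two (H : SH G Ω) {Q : Finset Ω} (hQ : Q.card = 4) {g : G} (hg : g ∈ Sy G Q) : Two g := by
  obtain ⟨k, hk⟩ := H.pg Q hQ ⟨g, hg⟩
  exact ⟨k, congrArg Subtype.val hk⟩

theorem two5 (H : SH G Ω) {g : G} (h2 : Two g) (h : 5 ≤ (fx Ω g).card) : g = 1 := by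
  obtain ⟨Q, hQ, hc⟩ := Finset.exists_subset_card_eq (show 4 ≤ (fx Ω g).card by omega)
  by_contra h1
  rw [H.sr Q hc g (mem_Sy_of (mem_St_iff.2 hQ) h2) h1] at h
  omega

theorem free (H : SH G Ω) {Q : Finset Ω} (hQ : Q.card = 4) {g : G} (hg : g ∈ Sy G Q) {α : Ω}
    (hα : α ∉ Q) (h : g • α = α) : g = 1 := by
  by_contra h1
  exact hα (H.sr Q hQ g hg h1 ▸ mem_fx.2 h)

theorem even (H : SH G Ω) : Fintype.card Ω % 2 = 0 := by
  obtain ⟨Q, -, hQ⟩ := Finset.exists_subset_card_eq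
    (show 4 ≤ (Finset.univ : Finset Ω).card by rw [Finset.card_univ]; have := H.h5; omega)
  obtain ⟨⟨x, hx⟩, hx1⟩ := Subgroup.ne_bot_iff_exists_ne_one.1 (H.ne Q hQ)
  obtain ⟨k, hk⟩ := H.two hQ hx
  have := card_fx_mod (F := (Finset.univ : Finset Ω)) Nat.prime_two (k := k) (g := x)
    (by rw [hk]; exact Subgroup.one_mem _) (fun _ _ => Finset.mem_univ _)
  rw [Finset.univ_inter, H.sr Q hQ x hx (fun e => hx1 (Subtype.ext e)), hQ,
    Finset.card_univ] at this
  unfold Nat.ModEq at this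
  omega

theorem exists_x (H : SH G Ω) {Q : Finset Ω} (hQ : Q.card = 4) :
    ∃ x ∈ Sy G Q, x ≠ 1 ∧ x * x = 1 ∧ ∀ t ∈ Sy G Q, Commute t x := by
  obtain ⟨x, h1, h2, h3, -, h4⟩ := exists_cent_inv (H.pg Q hQ) (H.ne Q hQ) (x := 1)
    ⟨0, one_pow _⟩ (Subgroup.one_mem _)
  exact ⟨x, h1, h2, h3, h4⟩

/-- step (1) -/
theorem exists_y (H : SH G Ω) {Q : Finset Ω} (hQ : Q.card = 4) {x : G} (hx : x ∈ Sy G Q)
    (hx1 : x ≠ 1) (hxx : x * x = 1) {α : Ω} (hα : α ∉ Q) {a b c d : Ω} (D : D4 a b c d)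
    (e : Q = {a, b, c, d}) :
    ∃ y : G, y * y = 1 ∧ Commute x y ∧ y • α = α ∧ y • a = b ∧ y • b = a ∧ y • c = c ∧
      y • d = d := by
  have hfx := H.sr Q hQ x hx hx1
  have hm : ∀ ω, ω ∈ Q ↔ x • ω = ω := fun ω => by rw [← hfx, mem_fx]
  have hxa : x • x • α = α := by rw [← mul_smul, hxx, one_smul]
  have hβ : x • α ∉ Q := fun h => hα ((hm α).2 (by rw [← (hm _).1 h, hxa]))
  have ha : a ∈ Q := by simp [e]
  have hb : b ∈ Q := by simp [e]
  have hc : c ∈ Q := by simp [e]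
  have hd : d ∈ Q := by simp [e]
  have D' : D4 α (x • α) c d := ⟨fun h => hα ((hm α).2 h.symm), fun h => hα (h ▸ hc),
    fun h => hα (h ▸ hd), fun h => hβ (h ▸ hc), fun h => hβ (h ▸ hd), D.2.2.2.2.2⟩
  have hs : x • ({α, x • α, c, d} : Finset Ω) = {α, x • α, c, d} := by
    refine smul_eq_of_maps fun ω hω => ?_
    simp only [Finset.mem_insert, Finset.mem_singleton] at hω ⊢
    rcases hω with rfl | rfl | rfl | rfl
    · simp
    · simp [hxa]
    · simp [(hm _).1 hc]
    · simp [(hm _).1 hd]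
  obtain ⟨y, hy, hy1, hyy, hxy, -⟩ := exists_cent_inv (H.pg _ D'.card) (H.ne _ D'.card)
    ⟨1, by simpa [sq] using hxx⟩ (norm_Sy hs)
  have hfy := H.sr _ D'.card y hy hy1
  have hmy : ∀ ω, y • ω = ω ↔ ω = α ∨ ω = x • α ∨ ω = c ∨ ω = d := fun ω => by
    rw [← mem_fx, hfy]; simp
  have yc : y • c = c := (hmy c).2 (by simp)
  have yd : y • d = d := (hmy d).2 (by simp)
  have yab : y • a = b := by
    have h1 : y • a ∈ Q := by rw [← hfx] at ha ⊢; exact smul_mem_fx hxy.symm ha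
    rw [e] at h1
    simp only [Finset.mem_insert, Finset.mem_singleton] at h1
    rcases h1 with h1 | h1 | h1 | h1
    · rcases (hmy a).1 h1 with h | h | h | h
      · exact absurd (h ▸ ha) hα
      · exact absurd (h ▸ ha) hβ
      · exact absurd h D.2.1
      · exact absurd h D.2.2.1
    · exact h1
    · exact absurd (smul_left_cancel y (h1.trans yc.symm)) D.2.1
    · exact absurd (smul_left_cancel y (h1.trans yd.symm)) D.2.2.1
  exact ⟨y, hyy, hxy, (hmy α).2 (by simp), yab, by rw [← yab, ← mul_smul, hyy, one_smul], yc, yd⟩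

/-- an element of odd order commuting with `x` and with `v` fixes the fixed points of `v` -/
theorem fix5 (H : SH G Ω) {x v u : G} (hxx : x * x = 1) (hv : Two v) (hv1 : v ≠ 1)
    (hxv : Commute x v) (hu : Odd (orderOf u)) (hux : Commute u x) (huv : Commute u v) {α : Ω}
    (hα : x • α ≠ α) (h : v • α = α) : u • α = α := by
  by_contra hne
  refine hv1 (H.two5 hv ?_)
  have hx2 : ∀ ω : Ω, x • x • ω = ω := fun ω => by rw [← mul_smul, hxx, one_smul]
  have hc : ∀ ω : Ω, u • x • ω = x • u • ω := fun ω => by rw [← mul_smul, hux.eq, mul_smul]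
  have n2 : u • u • α ≠ α := fun e => hne (fix_of_odd hu e)
  have n4 : u • u • u • u • α ≠ α := by
    intro e
    refine n2 ?_
    rw [← mul_smul]
    refine fix_of_odd ?_ (by rw [mul_smul, mul_smul, e])
    rw [← sq]
    exact hu.of_dvd_nat (orderOf_pow_dvd 2)
  have m1 : x • α ≠ u • α := by
    intro e
    exact n2 (by rw [← e, hc, ← e, hx2])
  have m2 : x • α ≠ u • u • α := by
    intro e
    exact n4 (by rw [← e, hc, hc, ← e, hx2])
  have m3 : u • x • α ≠ α := by
    intro e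
    have e1 : x • u • α = α := by rw [← hc, e]
    exact m1 (by rw [← hx2 (u • α), e1])
  have m4 : u • x • α ≠ x • α := by
    intro e
    rw [hc, smul_left_cancel_iff] at e
    exact hne e
  have D : D4 α (u • α) (u • u • α) (x • α) :=
    ⟨Ne.symm hne, n2.symm, hα.symm, fun e => hne (smul_left_cancel u e).symm, m1.symm, m2.symm⟩
  have hα' : α ∈ fx Ω v := mem_fx.2 h
  have hsub : insert (u • x • α) ({α, u • α, u • u • α, x • α} : Finset Ω) ⊆ fx Ω v := by
    intro ω hω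
    simp only [Finset.mem_insert, Finset.mem_singleton] at hω
    rcases hω with rfl | rfl | rfl | rfl | rfl
    · exact smul_mem_fx huv (smul_mem_fx hxv hα')
    · exact hα'
    · exact smul_mem_fx huv hα'
    · exact smul_mem_fx huv (smul_mem_fx huv hα')
    · exact smul_mem_fx hxv hα'
  have := Finset.card_le_card hsub
  rwa [Finset.card_insert_of_notMem (by
    simp only [Finset.mem_insert, Finset.mem_singleton, not_or]
    exact ⟨m3, fun e => hα (smul_left_cancel u e), fun e => m1 (smul_left_cancel u e), m4⟩),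
    D.card] at this

/-- two commuting involutions that centralise `x`, fix `α` and stabilise `Q` -/
theorem exists_four (H : SH G Ω) {Q : Finset Ω} (hQ : Q.card = 4) {x : G} (hx : x ∈ Sy G Q)
    (hx1 : x ≠ 1) (hxx : x * x = 1) {α : Ω} (hα : α ∉ Q) :
    ∃ y z : G, orderOf y = 2 ∧ orderOf z = 2 ∧ y ≠ z ∧ Commute y z ∧ Commute x y ∧ Commute x z ∧
      y • α = α ∧ z • α = α := by
  have : Fact (Nat.Prime 2) := ⟨Nat.prime_two⟩
  obtain ⟨a, b, c, d, D, e⟩ := exists_D4 hQ
  obtain ⟨h1, h2, h3, h4, h5, h6⟩ := D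
  obtain ⟨y, yy, xy, yα, ya, yb, yc, yd⟩ := H.exists_y hQ hx hx1 hxx hα ⟨h1, h2, h3, h4, h5, h6⟩ e
  obtain ⟨y', yy', xy', yα', yc', yd', ya', yb'⟩ := H.exists_y hQ hx hx1 hxx hα
    (a := c) (b := d) (c := a) (d := b) ⟨h6, h2.symm, h4.symm, h3.symm, h5.symm, h1⟩ (by
      rw [e]; ext ω; simp only [Finset.mem_insert, Finset.mem_singleton]; tauto)
  have hw : ∀ n : ℕ, (Even n → (y * y') ^ n • a = a) ∧
      (Odd n → (y * y') ^ n • a = b ∧ (y * y') ^ n • c = d) := by
    have k2 : ∀ m : ℕ, (y * y') ^ (2 * m) • a = a ∧ (y * y') ^ (2 * m) • c = c := by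
      intro m
      induction m with
      | zero => simp
      | succ m ih =>
        rw [show 2 * (m + 1) = 2 * m + 1 + 1 by ring, pow_succ, pow_succ]
        simp only [mul_smul, ya', ya, yb', yb, yc', yd, yd', yc, ih.1, ih.2, and_self]
    intro n
    refine ⟨fun ⟨m, hm⟩ => by rw [hm, ← two_mul]; exact (k2 m).1, fun ⟨m, hm⟩ => ?_⟩
    rw [hm, pow_succ']
    simp only [mul_smul, (k2 m).1, (k2 m).2, ya', ya, yc', yd, and_self]
  have hev : Even (orderOf (y * y')) := by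
    rw [← Nat.not_odd_iff_even]
    intro ho
    have := ((hw _).2 ho).1
    rw [pow_orderOf_eq_one, one_smul] at this
    exact h1 this
  have hz : orderOf ((y * y') ^ (orderOf (y * y') / 2)) = 2 :=
    orderOf_pow_orderOf_div (orderOf_pos _).ne' hev.two_dvd
  have hyi : y⁻¹ = y := inv_eq_of_mul_eq_one_right yy
  have hyi' : y'⁻¹ = y' := inv_eq_of_mul_eq_one_right yy'
  refine ⟨y, _, orderOf_eq_prime (by rw [sq, yy]) (fun e => h1 (by rw [← ya, e, one_smul])), hz,
    fun e => ?_, ?_, xy, (xy.mul_right xy').pow_right _, yα, ?_⟩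
  · rcases Nat.even_or_odd (orderOf (y * y') / 2) with h | h
    · exact h1 (by rw [← ya, e, (hw _).1 h])
    · exact h6 (by rw [← yc, e, ((hw _).2 h).2])
  · have h7 : y * (y * y') * y⁻¹ = (y * y')⁻¹ := by
      rw [mul_inv_rev, hyi, hyi', ← mul_assoc, yy, one_mul]
    have h8 : ((y * y') ^ (orderOf (y * y') / 2))⁻¹ = (y * y') ^ (orderOf (y * y') / 2) := by
      refine inv_eq_of_mul_eq_one_right ?_
      rw [← sq]
      exact orderOf_dvd_iff_pow_eq_one.1 hz.dvd
    refine mul_inv_eq_iff_eq_mul.1 ?_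
    rw [← conj_pow, h7, inv_pow, h8]
  · have : y * y' ∈ MulAction.stabilizer G α := by
      rw [MulAction.mem_stabilizer_iff, mul_smul, yα', yα]
    exact Subgroup.pow_mem _ this _

/-- step (2) -/
theorem odd_triv [FaithfulSMul G Ω] (H : SH G Ω) {Q : Finset Ω} (hQ : Q.card = 4) {g : G}
    (hg : g ∈ St G Q) (ho : Odd (orderOf g)) (hc : ∀ x ∈ Sy G Q, Commute g x) : g = 1 := by
  obtain ⟨x, hx, hx1, hxx, hxc⟩ := H.exists_x hQ
  have hfx := H.sr Q hQ x hx hx1
  obtain ⟨U, hUo, hU⟩ := exists_odd_part (D := St G Q ⊓ Subgroup.centralizer (Sy G Q : Set G))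
    (fun t ht h2 d hd => (hd.2 t (mem_Sy_of ht.1 h2)).symm)
  have hgU : g ∈ U := (hU g).2 ⟨⟨hg, fun t ht => (hc t ht).eq.symm⟩, ho⟩
  refine eq_of_smul_eq_smul (α := Ω) fun α => ?_
  rw [one_smul]
  by_cases hα : α ∈ Q
  · exact hg α hα
  obtain ⟨y, z, hy, hz, hyz, cyz, xy, xz, yα, zα⟩ := H.exists_four hQ hx hx1 hxx hα
  have hcomm : IsMulCommutative (Subgroup.closure ({y, z} : Set G)) := by
    refine Subgroup.isMulCommutative_closure fun a ha b hb => ?_
    rcases ha with rfl | rfl <;> rcases hb with rfl | rfl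
    · rfl
    · exact cyz.eq
    · exact cyz.eq.symm
    · rfl
  have hyA : y ∈ Subgroup.closure ({y, z} : Set G) := Subgroup.subset_closure (by simp)
  have hzA : z ∈ Subgroup.closure ({y, z} : Set G) := Subgroup.subset_closure (by simp)
  have hsq : ∀ a ∈ Subgroup.closure ({y, z} : Set G), a ^ 2 = 1 := by
    intro a ha
    induction ha using Subgroup.closure_induction with
    | mem a ha =>
      rcases ha with rfl | rfl
      · rw [← hy, pow_orderOf_eq_one]
      · rw [← hz, pow_orderOf_eq_one]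
    | one => exact one_pow _
    | mul a b ha hb iha ihb =>
      have : Commute a b := setLike_mul_comm ha hb
      rw [this.mul_pow, iha, ihb, one_mul]
    | inv a _ iha => rw [inv_pow, iha, inv_one]
  have hJ : Subgroup.closure ({y, z} : Set G) ≤
      Subgroup.centralizer ({x} : Set G) ⊓ MulAction.stabilizer G α := by
    rw [Subgroup.closure_le]
    rintro a (rfl | rfl)
    · exact ⟨Subgroup.mem_centralizer_singleton_iff.2 xy.eq.symm, yα⟩
    · exact ⟨Subgroup.mem_centralizer_singleton_iff.2 xz.eq.symm, zα⟩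
  have hnc : ¬ IsCyclic (Subgroup.closure ({y, z} : Set G)) := by
    classical
    intro h
    have h1 := zpowers_eq_of_cyclic h hyA hzA (hy.trans hz.symm)
    have h2 : y ∈ Subgroup.zpowers z := h1 ▸ Subgroup.mem_zpowers y
    obtain ⟨k, hk, e⟩ := Finset.mem_image.1 (mem_zpowers_iff_mem_range_orderOf.1 h2)
    rw [hz, Finset.mem_range] at hk
    interval_cases k
    · rw [← e, pow_zero, orderOf_one] at hy; omega
    · exact hyz (by rw [← e, pow_one])
  have hnorm : Subgroup.closure ({y, z} : Set G) ≤ Subgroup.normalizer (U : Set G) := by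
    intro a ha
    have hax : Commute a x := Subgroup.mem_centralizer_singleton_iff.1 (hJ ha).1
    have haQ : a • Q = Q := smul_eq_of_maps fun ω hω => by
      rw [← hfx] at hω ⊢; exact smul_mem_fx hax hω
    refine Subgroup.mem_normalizer_fintype fun u hu => ?_
    obtain ⟨⟨u1, u2⟩, u3⟩ := (hU u).1 hu
    refine (hU _).2 ⟨⟨(Subgroup.mem_normalizer_iff.1 (norm_St haQ) u).1 u1, fun t ht => ?_⟩, ?_⟩
    · have h1 : a⁻¹ * t * a ∈ Sy G Q := by
        rw [Subgroup.mem_normalizer_iff.1 (norm_Sy haQ)]; simpa [mul_assoc] using ht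
      have h2 := u2 _ h1
      calc t * (a * u * a⁻¹) = a * (a⁻¹ * t * a * u) * a⁻¹ := by group
        _ = _ := by rw [h2]; group
    · have : orderOf (a * u * a⁻¹) = orderOf u := (MulAut.conj a).orderOf_eq u
      rwa [this]
  have hcop : (Nat.card (Subgroup.closure ({y, z} : Set G))).Coprime (Nat.card U) := by
    have : Fact (Nat.Prime 2) := ⟨Nat.prime_two⟩
    have hp : IsPGroup 2 (Subgroup.closure ({y, z} : Set G)) :=
      fun a => ⟨1, Subtype.ext (hsq a a.2)⟩
    obtain ⟨n, hn⟩ := hp.exists_card_eq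
    rw [hn]; exact (Nat.coprime_two_left.2 hUo).pow_left n
  refine CL.coprime_le_of_forall_centralizer_le _ U (MulAction.stabilizer G α) hnc hnorm hcop
    (fun v hv hv1 u hu => ?_) hgU
  obtain ⟨⟨-, u2⟩, u3⟩ := (hU u).1 hu.1
  exact H.fix5 hxx ⟨1, hsq v hv⟩ hv1 (Subgroup.mem_centralizer_singleton_iff.1 (hJ hv).1).symm u3
    (u2 x hx).symm (Subgroup.mem_centralizer_singleton_iff.1 hu.2)
    (fun e => hα (hfx ▸ mem_fx.2 e)) (hJ hv).2

theorem fpf [FaithfulSMul G Ω] (H : SH G Ω) {Q : Finset Ω} (hQ : Q.card = 4) {g : G}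
    (hg : g ∈ St G Q) (hS : g ∉ Sy G Q) {x : G} (hx : x ∈ Sy G Q) (hc : Commute g x) : x = 1 := by
  obtain ⟨j, p, hp, hp2, ho⟩ := exists_odd_pow (g := g) fun h => hS (mem_Sy_of hg h)
  have hj := (St G Q).pow_mem hg j
  rcases H.cf Q hQ _ hj p hp hp2 ho with h | h
  · have := H.odd_triv hQ hj (ho ▸ hp.odd_of_ne_two hp2) h
    rw [this, orderOf_one] at ho
    exact absurd ho hp.one_lt.ne
  · exact h x hx (hc.pow_left j)

theorem frob [FaithfulSMul G Ω] (H : SH G Ω) {Q : Finset Ω} (hQ : Q.card = 4)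
    (hne : Sy G Q ≠ St G Q) : Frob (St G Q) (Sy G Q) := by
  have : Fact (Nat.Prime 2) := ⟨Nat.prime_two⟩
  exact ⟨Sy_le Q,
    fun h hh k hk => (Subgroup.mem_normalizer_iff.1 (norm_Sy (smul_eq_of_mem_St hh)) k).1 hk,
    H.ne Q hQ, hne, (H.pg Q hQ).isNilpotent, fun g hg hS k hk hc => H.fpf hQ hg hS hk hc⟩

/-- step (3): an element of order three that stabilises all orbits of `Sy Q` -/
theorem exists_u [FaithfulSMul G Ω] (H : SH G Ω) {x : G} {a b c d : Ω} (D : D4 a b c d)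
    (hx : x ∈ Sy G ({a, b, c, d} : Finset Ω)) (hx1 : x ≠ 1) (hxx : x * x = 1) {α : Ω}
    (hα : α ∉ ({a, b, c, d} : Finset Ω)) :
    ∃ u : G, Commute x u ∧ u • α = α ∧ u • a = b ∧ u • b = c ∧ u • c = a ∧ u • d = d := by
  obtain ⟨h1, h2, h3, h4, h5, h6⟩ := D
  have D : D4 a b c d := ⟨h1, h2, h3, h4, h5, h6⟩
  obtain ⟨y, -, xy, yα, ya, yb, yc, yd⟩ := H.exists_y D.card hx hx1 hxx hα D rfl
  obtain ⟨y', -, xy', yα', yb', yc', ya', yd'⟩ := H.exists_y D.card hx hx1 hxx hα
    (a := b) (b := c) (c := a) (d := d) ⟨h4, h1.symm, h5, h2.symm, h6, h3⟩ (by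
      ext ω; simp only [Finset.mem_insert, Finset.mem_singleton]; tauto)
  exact ⟨y * y', xy.mul_right xy', by rw [mul_smul, yα', yα], by rw [mul_smul, ya', ya],
    by rw [mul_smul, yb', yc], by rw [mul_smul, yc', yb], by rw [mul_smul, yd', yd]⟩

theorem trans [FaithfulSMul G Ω] (H : SH G Ω) {Q : Finset Ω} (hQ : Q.card = 4) {α β : Ω}
    (hα : α ∉ Q) (hβ : β ∉ Q) : ∃ x ∈ Sy G Q, x • α = β := by
  have : Fact (Nat.Prime 2) := ⟨Nat.prime_two⟩
  have : Fact (Nat.Prime 3) := ⟨Nat.prime_three⟩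
  by_contra hne
  obtain ⟨x, hx, hx1, hxx, hxc⟩ := H.exists_x hQ
  have hfx := H.sr Q hQ x hx hx1
  obtain ⟨a, b, c, d, D, e⟩ := exists_D4 hQ
  have hC : ∀ g ∈ St G Q, Commute x g → g ∈ Sy G Q := fun g hg hc => by
    by_contra h; exact hx1 (H.fpf hQ hg h hx hc.symm)
  have hSt : ∀ g : G, g • a = a → g • b = b → g • c = c → g • d = d → g ∈ St G Q := by
    intro g h1 h2 h3 h4 ω hω
    rw [e] at hω
    simp only [Finset.mem_insert, Finset.mem_singleton] at hω
    rcases hω with rfl | rfl | rfl | rfl <;> assumption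
  obtain ⟨u, xu, uα, ua, ub, uc, ud⟩ := H.exists_u D (e ▸ hx) hx1 hxx (e ▸ hα)
  obtain ⟨w, xw, wβ, wa, wb, wc, wd⟩ := H.exists_u D (e ▸ hx) hx1 hxx (e ▸ hβ)
  have hu3 : u ^ 3 = 1 := by
    have e3 : ∀ ω : Ω, u ^ 3 • ω = u • u • u • ω := fun ω => by
      rw [pow_three, mul_smul, mul_smul]
    refine H.free hQ (hC _ (hSt _ ?_ ?_ ?_ ?_) (xu.pow_right 3)) hα ?_ <;>
      simp only [e3, ua, ub, uc, ud, uα]
  have hu1 : u ≠ 1 := fun h => D.1 (by rw [← ua, h, one_smul])
  have huo : orderOf u = 3 := orderOf_eq_prime hu3 hu1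
  have huQ : u • Q = Q := smul_eq_of_maps fun ω hω => by
    rw [← hfx] at hω ⊢; exact smul_mem_fx xu.symm hω
  have hun : ∀ t ∈ Sy G Q, u * t * u⁻¹ ∈ Sy G Q :=
    fun t ht => (Subgroup.mem_normalizer_iff.1 (norm_Sy huQ) t).1 ht
  have huw : u * w⁻¹ ∈ Sy G Q := by
    refine hC _ (hSt _ ?_ ?_ ?_ ?_) (xu.mul_right xw.inv_right)
    · rw [mul_smul, inv_smul_eq_iff.2 wc.symm, uc]
    · rw [mul_smul, inv_smul_eq_iff.2 wa.symm, ua]
    · rw [mul_smul, inv_smul_eq_iff.2 wb.symm, ub]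
    · rw [mul_smul, inv_smul_eq_iff.2 wd.symm, ud]
  have hoff : ∀ t ∈ Sy G Q, ∀ ω, ω ∉ Q → t • ω ∉ Q := fun t ht ω hω h => hω (by
    have := Sy_le Q ht _ h
    rw [smul_left_cancel_iff] at this
    exact this ▸ h)
  obtain ⟨n, hn⟩ := (H.pg Q hQ).exists_card_eq
  -- `u` fixes a point of the orbit of `β`
  obtain ⟨t, ht, hω⟩ : ∃ t ∈ Sy G Q, u • t • β = t • β := by
    have hinv : Inv (Sy G Q) (Finset.univ : Finset Ω) := fun _ _ _ _ => Finset.mem_univ _
    have h1 := card_eq_of_trans (orb_inv hinv β)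
      (mem_orb.2 ⟨Finset.mem_univ β, 1, Subgroup.one_mem _, one_smul _ _⟩)
      (fun y hy => (mem_orb.1 hy).2)
    have h2 : Sy G Q ⊓ St G ({β} : Finset Ω) = ⊥ :=
      eq_bot_iff.2 fun g hg => H.free hQ hg.1 hβ (hg.2 β (Finset.mem_singleton_self β))
    rw [h2, Subgroup.card_bot, mul_one, hn] at h1
    have h3 := card_fx_mod (F := orb (Sy G Q) Finset.univ β) Nat.prime_three (k := 1) (g := u)
      (by rw [pow_one, hu3]; exact Subgroup.one_mem _) (fun ω hω => by
        obtain ⟨-, t, ht, rfl⟩ := mem_orb.1 hω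
        refine mem_orb.2 ⟨Finset.mem_univ _, u * t * u⁻¹ * (u * w⁻¹),
          Subgroup.mul_mem _ (hun t ht) huw, ?_⟩
        rw [show u * t * u⁻¹ * (u * w⁻¹) = u * t * w⁻¹ by group, mul_smul, mul_smul,
          inv_smul_eq_iff.2 wβ.symm])
    obtain ⟨ω, hω⟩ : (orb (Sy G Q) Finset.univ β ∩ fx Ω u).Nonempty := by
      rw [Finset.nonempty_iff_ne_empty]
      intro h
      rw [h, Finset.card_empty, ← h1] at h3
      have := Nat.prime_three.dvd_of_dvd_pow (Nat.modEq_zero_iff_dvd.1 h3.symm)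
      omega
    obtain ⟨h4, h5⟩ := Finset.mem_inter.1 hω
    obtain ⟨-, t, ht, rfl⟩ := mem_orb.1 h4
    exact ⟨t, ht, mem_fx.1 h5⟩
  have hno : ∀ s ∈ Sy G Q, s • α ≠ t • β := fun s hs h =>
    hne ⟨t⁻¹ * s, Subgroup.mul_mem _ (Subgroup.inv_mem _ ht) hs, by rw [mul_smul, h, inv_smul_smul]⟩
  have hdQ : d ∈ Q := by simp [e]
  have D' : D4 d α (x • α) (t • β) := ⟨fun h => hα (h ▸ hdQ), fun h => hoff x hx α hα (h ▸ hdQ),
    fun h => hoff t ht β hβ (h ▸ hdQ), fun h => hα (hfx ▸ mem_fx.2 h.symm),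
    fun h => hno 1 (Subgroup.one_mem _) (by rw [one_smul, h]), hno x hx⟩
  have huQ' : u ∈ St G ({d, α, x • α, t • β} : Finset Ω) := by
    intro ω hω
    simp only [Finset.mem_insert, Finset.mem_singleton] at hω
    rcases hω with rfl | rfl | rfl | rfl
    · exact ud
    · exact uα
    · exact mem_fx.1 (smul_mem_fx xu (mem_fx.2 uα))
    · exact hω
  have huS : u ∉ Sy G ({d, α, x • α, t • β} : Finset Ω) := by
    intro h
    obtain ⟨k, hk⟩ := H.two D'.card h
    have := Nat.prime_three.dvd_of_dvd_pow (huo ▸ orderOf_dvd_of_pow_eq_one hk)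
    omega
  have hF := H.frob D'.card (fun h => huS (h ▸ huQ'))
  have hy := hyp_of_one H.tr D'.card hF
  have hK := Kn_eq hF
  have hcS := hy.card_Sy D'.card hQ
  have hn0 : n ≠ 0 := by
    rintro rfl
    exact H.ne Q hQ (Subgroup.eq_bot_of_card_eq _ hn)
  have hy2 : Hyp2 G Ω := ⟨hy, fun Q'' hQ'' => by
    rw [hy.card_Kn hQ'' D'.card, hK, hcS, hn]
    exact (Nat.even_pow.2 ⟨even_two, hn0⟩)⟩
  have hE := (lemE hy2 Nat.prime_three huo D'.card huQ' (hK ▸ huS)).1
  have m1 := hF.card_mod Nat.prime_three (k := 1) huQ' huS (by rw [pow_one, hu3]) le_rfl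
    (hF.norm u huQ')
  rw [hcS] at m1
  have m2 := card_cent_mod Nat.prime_three (k := 1) (by rw [pow_one, hu3]) hun
  set Z := Sy G Q ⊓ Subgroup.centralizer ({u} : Set G) with hZ
  obtain ⟨i, hi⟩ := ((H.pg Q hQ).to_le (inf_le_left : Z ≤ _)).exists_card_eq
  have hxZ : x ∈ Z := ⟨hx, Subgroup.mem_centralizer_singleton_iff.2 xu.eq⟩
  have h4 : 4 ∣ Nat.card Z := by
    have m3 := m2.symm.trans m1
    rw [hi] at m3 ⊢
    match i, hi, m3 with
    | 0, hi, _ =>
      rw [Subgroup.eq_bot_of_card_eq Z hi, Subgroup.mem_bot] at hxZ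
      exact absurd hxZ hx1
    | 1, _, m3 => exact absurd m3 (by decide)
    | i + 2, _, _ => exact ⟨2 ^ i, by ring⟩
  have hinv : Inv Z (fx Ω u \ Q) := fun s hs ω hω => Finset.mem_sdiff.2
    ⟨smul_mem_fx (Subgroup.mem_centralizer_singleton_iff.1 hs.2) (Finset.mem_sdiff.1 hω).1,
      hoff s hs.1 ω (Finset.mem_sdiff.1 hω).2⟩
  have hdv := dvd_of_semireg hinv bot_le bot_le
    (fun s hs ω hω h => Subgroup.mem_bot.2 (H.free hQ hs.1 (Finset.mem_sdiff.1 hω).2 h))
  rw [Subgroup.relIndex_bot_left] at hdv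
  have hcard : (fx Ω u \ Q).card + 1 = (fx Ω u).card := by
    have : fx Ω u ∩ Q = {d} := by
      ext ω
      rw [Finset.mem_inter, mem_fx, e]
      simp only [Finset.mem_insert, Finset.mem_singleton]
      constructor
      · rintro ⟨h, rfl | rfl | rfl | rfl⟩
        · exact absurd (h.symm.trans ua) D.1
        · exact absurd (h.symm.trans ub) D.2.2.2.1
        · exact absurd (uc.symm.trans h) D.2.1
        · rfl
      · rintro rfl; exact ⟨ud, by simp⟩
    rw [← Finset.card_sdiff_add_card_inter (fx Ω u) Q, this, Finset.card_singleton]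
  have hαF : α ∈ fx Ω u \ Q := Finset.mem_sdiff.2 ⟨mem_fx.2 uα, hα⟩
  have h1 := card_eq_of_trans (orb_inv hinv α)
    (mem_orb.2 ⟨hαF, 1, Subgroup.one_mem _, one_smul _ _⟩) (fun y hy => (mem_orb.1 hy).2)
  have h2 : Z ⊓ St G ({α} : Finset Ω) = ⊥ :=
    eq_bot_iff.2 fun g hg => H.free hQ hg.1.1 hα (hg.2 α (Finset.mem_singleton_self α))
  rw [h2, Subgroup.card_bot, mul_one] at h1
  have hlt : (orb Z (fx Ω u \ Q) α).card < (fx Ω u \ Q).card := by
    refine Finset.card_lt_card ⟨fun ω hω => (mem_orb.1 hω).1, fun h => ?_⟩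
    obtain ⟨-, s, hs, es⟩ := mem_orb.1 (h (Finset.mem_sdiff.2 ⟨mem_fx.2 hω, hoff t ht β hβ⟩))
    exact hno s hs.1 es
  have h5 := h4.trans hdv
  have h6 : 4 ≤ Nat.card Z := Nat.le_of_dvd Nat.card_pos h4
  omega

/-- step (4) -/
theorem T4a [FaithfulSMul G Ω] (H : SH G Ω) (a : Ω) :
    (((Finset.univ.erase a).card = 4 ∨ (Finset.univ.erase a).card = 5) ∧
        (act (inv_erase (G := G) a)).range = ⊤) ∨
      (((Finset.univ.erase a).card = 6 ∨ (Finset.univ.erase a).card = 7) ∧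
        (act (inv_erase (G := G) a)).range = alternatingGroup (Finset.univ.erase a)) ∨
      ((Finset.univ.erase a).card = 11 ∧ Nat.card (act (inv_erase (G := G) a)).range = 7920 ∧
        IsSimpleGroup (act (inv_erase (G := G) a)).range ∧
        ∀ g ∈ St G ({a} : Finset Ω), 4 ≤ (Finset.univ.erase a ∩ fx Ω g).card →
          g ∈ St G (Finset.univ.erase a)) := by
  have h5 : 5 ≤ (Finset.univ.erase a).card := by
    rw [Finset.card_erase_of_mem (Finset.mem_univ a), Finset.card_univ]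
    have := H.even
    have := H.h5
    omega
  obtain ⟨Q, hQF, hQ⟩ := Finset.exists_subset_card_eq
    (show 4 ≤ (Finset.univ.erase a).card by omega)
  refine T4 (inv_erase a) (slide h5 fun b c d e e' hb hc hd he he' D D' => ?_) hQF hQ
    fun g hg hgQ h2 => ?_
  · have n : ∀ {ω}, ω ∈ Finset.univ.erase a → a ≠ ω := fun h => (Finset.mem_erase.1 h).1.symm
    have Da : D4 a b c d := ⟨n hb, n hc, n hd, D.1, D.2.1, D.2.2.2.1⟩
    have hn : ∀ {ω}, ω ∈ Finset.univ.erase a → D4 b c d ω → ω ∉ ({a, b, c, d} : Finset Ω) := by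
      intro ω h D
      simp only [Finset.mem_insert, Finset.mem_singleton, not_or]
      exact ⟨(n h).symm, D.2.2.1.symm, D.2.2.2.2.1.symm, D.2.2.2.2.2.symm⟩
    obtain ⟨g, hg, eg⟩ := H.trans Da.card (hn he D) (hn he' D')
    have hs := Sy_le _ hg
    exact ⟨g, St_mono (by simp) hs, hs b (by simp), hs c (by simp), hs d (by simp), eg⟩
  · have : g = 1 := by
      refine H.two5 h2 ?_
      have h1 : insert a Q ⊆ fx Ω g :=
        Finset.insert_subset (mem_fx.2 (hg a (Finset.mem_singleton_self a))) (mem_St_iff.1 hgQ)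
      have := Finset.card_le_card h1
      rwa [Finset.card_insert_of_notMem (fun h => Finset.notMem_erase a _ (hQF h)), hQ] at this
    rw [this]; exact Subgroup.one_mem _

end SH

/-- `E_Q = Sy G Q`, `m = |Ω|` (even: `card_Fx_mod`).  Fix `Q`, `x` a central involution of `E = E_Q`,
`C = C(x)` (it stabilises `Q = fx x`).
(1) For `α ∉ Q`, `β = xα`, `γ ≠ δ ∈ Q`: `x` normalises `E_{αβγδ}` (`norm_Sy`), so commutes with an
involution `y` of it (`exists_cent_inv`); `fx y = {α,β,γ,δ}`, so `y` acts on `Q` as the transposition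
of the two other points.  Hence `J = C ⊓ St {α}` induces all transpositions, so `Sym Q`.
(2) No element of odd prime order of `St Q` centralises `E`.  `D = St Q ⊓ C(E)` has the central normal
Sylow subgroup `D ⊓ E`; let `U` be its complement (Schur-Zassenhaus; `U` = elements of odd order of
`D`, so it is normalised by everything that stabilises `Q`).  In a maximal 2-subgroup `T` of `J`
(`T ⊓ St Q = ⊥` by `sr`, `T` maps onto a Sylow subgroup of `Sym Q`) take the four-group `V` acting as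
the Klein group on `Q` (or: lift two double transpositions; squares and commutators lie in
`T ⊓ St Q`).  `v ∈ V#` fixes `α, β`, no point of `Q`, and at most four points (`sr`).  `u ∈ C_U(v)` has
odd order, commutes with `x` and permutes `fx v` = at most two 2-cycles of `x`: `u⁴`, so `u`, fixes `α`.
`CL.coprime_iSup_centralizer_noncyclic`: `U` fixes `α`.  All `α`: `U = ⊥` (faithful).
So by `cf` elements of odd prime order of any `St Q'` are fixed-point-free on `E_{Q'}`, and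
`C ⊓ St Q = E`.
(3) `E` is transitive on `Ω \ Q`.  For every `α' ∉ Q`, `C = E J_{α'}`, so every `E`-orbit off `Q` is
`C`-invariant.  Let `u ∈ J` be a 3-element acting as a 3-cycle on `Q` (`lift3`); `u³ ∈ C ⊓ St Q = E`,
so `u³ = 1`.  An `E`-orbit `O` has `|E| = 2^j` points, so `u` fixes a point `ω` of it and then exactly
the `e ω`, `e ∈ C_E(u) ∋ x`.  With `k ≥ 2` orbits `|fx u| = 1 + k |C_E(u)| ≥ 5`; then `u ∈ St Q'`, and
`Frob (St Q') (E_{Q'})` holds (an element outside `E_{Q'}` has a power of odd prime order), so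
`Hyp2 G Ω` (`hyp_of_one`, `Kn_eq`); `|E| ≡ 1 (mod 3)` (`Frob.card_mod`), so `|C_E(u)| ≡ 1`, a power of
two `≥ 2`, so divisible by 4; `lemE`: `|fx u| ∈ {4,5,6,7,11}`, `= 1 + 4 k k'` with `k ≥ 2`: impossible.
(4) So `N = St {a}` is 4-transitive on `univ.erase a` (`slide`), 2-elements fixing five points are
trivial; `T4` gives `m - 1 ∈ {5, 7, 11}`; for 7, `|N| = 2520` and `|G| = 8 · 2520`. -/
theorem semi [FaithfulSMul G Ω] (tr : Tr4 (⊤ : Subgroup G) (Finset.univ : Finset Ω))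
    (h5 : 5 ≤ Fintype.card Ω)
    (pg : ∀ Q : Finset Ω, Q.card = 4 → IsPGroup 2 (Sy G Q))
    (ne : ∀ Q : Finset Ω, Q.card = 4 → Sy G Q ≠ ⊥)
    (sr : ∀ Q : Finset Ω, Q.card = 4 → ∀ x ∈ Sy G Q, x ≠ 1 → fx Ω x = Q)
    (cf : ∀ Q : Finset Ω, Q.card = 4 → ∀ g ∈ St G Q, ∀ p : ℕ, p.Prime → p ≠ 2 → orderOf g = p →
      (∀ x ∈ Sy G Q, Commute g x) ∨ ∀ x ∈ Sy G Q, Commute g x → x = 1) :
    Fintype.card Ω = 6 ∨ (Fintype.card Ω = 8 ∧ Nat.card G = 20160) ∨
      (Fintype.card Ω = 12 ∧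
        (∀ Q : Finset Ω, Q.card = 4 → ∀ α β : Ω, α ∉ Q → β ∉ Q → ∃ x ∈ Sy G Q, x • α = β) ∧
        ∀ g : G, 5 ≤ (fx Ω g).card → g = 1) := by
  have H : SH G Ω := ⟨tr, h5, pg, ne, sr, cf⟩
  have hev := H.even
  obtain ⟨a⟩ : Nonempty Ω := Fintype.card_pos_iff.1 (by omega)
  have hc : ∀ a : Ω, (Finset.univ.erase a).card = Fintype.card Ω - 1 := fun a => by
    rw [Finset.card_erase_of_mem (Finset.mem_univ a), Finset.card_univ]
  rcases H.T4a a with h | h | h
  · left
    have := h.1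
    rw [hc] at this
    omega
  · right; left
    have h8 : Fintype.card Ω = 8 := by
      have := h.1
      rw [hc] at this
      omega
    refine ⟨h8, ?_⟩
    have h1 := card_eq_of_trans (N := (⊤ : Subgroup G)) (F := (Finset.univ : Finset Ω))
      (fun _ _ _ _ => Finset.mem_univ _) (Finset.mem_univ a)
      (fun y hy => tr.one (by rw [Finset.card_univ]; omega) (Finset.mem_univ a) hy)
    rw [top_inf_eq, Subgroup.card_top, Finset.card_univ, h8] at h1
    have hinj : Function.Injective (act (inv_erase (G := G) a)) := by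
      rw [injective_iff_map_eq_one]
      intro g hg
      exact Subtype.ext (eq_one_of_erase g.2 ((act_eq_one _ g).1 hg))
    have h2 : Nat.card (St G ({a} : Finset Ω)) = Nat.card (act (inv_erase (G := G) a)).range :=
      Nat.card_congr (MonoidHom.ofInjective hinj).toEquiv
    have h7 : Fintype.card (Finset.univ.erase a) = 7 := by rw [Fintype.card_coe, hc, h8]
    have : Nontrivial (Finset.univ.erase a) := Fintype.one_lt_card_iff_nontrivial.1 (by omega)
    rw [h.2, nat_card_alternatingGroup, Nat.card_eq_fintype_card (α := Finset.univ.erase a),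
      h7] at h2
    rw [h1, h2]
    rfl
  · right; right
    have h12 : Fintype.card Ω = 12 := by
      have := h.1
      rw [hc] at this
      omega
    refine ⟨h12, fun Q hQ α β hα hβ => H.trans hQ hα hβ, fun g hg => ?_⟩
    obtain ⟨b, hb⟩ : (fx Ω g).Nonempty := Finset.card_pos.1 (by omega)
    have hgb : g ∈ St G ({b} : Finset Ω) := mem_St_iff.2 (Finset.singleton_subset_iff.2 hb)
    rcases H.T4a b with h | h | h
    · have := h.1
      rw [hc] at this
      omega
    · have := h.1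
      rw [hc] at this
      omega
    · refine eq_one_of_erase hgb (h.2.2.2 g hgb ?_)
      rw [Finset.erase_inter, Finset.univ_inter, Finset.card_erase_of_mem hb]
      omega

end CL.F4
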