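import Cfsg.Agent.PERM.F4.Sev1

/-!
S3404, Case II, blocks of size seven: `P = ⊥`.
-/

set_option autoImplicit false

namespace CL.F4

open scoped Pointwise

variable {G Ω : Type*} [Group G] [Finite G] [MulAction G Ω] [Fintype Ω] [DecidableEq Ω]

variable (G Ω) in
/-- standing hypotheses -/
structure S2 (P : Subgroup G) : Prop where
  hy : Hyp2 G Ω
  h7 : ∀ Q : Finset Ω, Q.card = 4 → (Fx Ω (Sy G Q)).card = 7
  hA : ∀ Q : Finset Ω, Q.card = 4 →
    (act (inv_Fx (Ω := Ω) (Sy G Q))).range = alternatingGroup (Fx Ω (Sy G Q))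
  hP : PMax Ω 7 P
  h23 : (Fx Ω P).card = 23
  ne : P ≠ ⊥

variable (Ω) in
/-- good triples -/
def Good (P : Subgroup G) (Q t : Finset Ω) : Prop :=
  t ⊆ Fx Ω (Sy G Q) ∧ t.card = 3 ∧ ∃ y : G, Two y ∧ y ∈ Subgroup.centralizer (P : Set G) ∧
    y ∈ Subgroup.normalizer (Sy G Q : Set G) ∧ y ∈ St G t ∧ y ∉ St G (Fx Ω (Sy G Q))

namespace S2

variable {P : Subgroup G}

theorem ab (H : S2 G Ω P) {Q : Finset Ω} (hQ : Q.card = 4) :
    (∀ a ∈ Sy G Q, ∀ b ∈ Sy G Q, Commute a b) ∧ ∀ a ∈ Sy G Q, a * a = 1 := by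
  obtain ⟨t, T, c, h⟩ := pack₀ H.hy hQ (H.h7 Q hQ) (H.hA Q hQ)
  exact ⟨h.ab, h.ex⟩

theorem le (H : S2 G Ω P) {Q : Finset Ω} (hQ : Q.card = 4) (hQF : Q ⊆ Fx Ω P) : P ≤ Sy G Q :=
  (H.hP.lt_Sy (H.h7 Q hQ) hQF).1

theorem cen (H : S2 G Ω P) {Q : Finset Ω} (hQ : Q.card = 4) (hQF : Q ⊆ Fx Ω P) :
    Sy G Q ≤ Subgroup.centralizer (P : Set G) := fun s hs =>
  Subgroup.mem_centralizer_iff.2 fun a ha => ((H.ab hQ).1 a (H.le hQ hQF ha) s hs).eq

theorem blk_sub (H : S2 G Ω P) {Q : Finset Ω} (hQ : Q.card = 4) (hQF : Q ⊆ Fx Ω P) :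
    Fx Ω (Sy G Q) ⊆ Fx Ω P := Fx_anti (H.le hQ hQF)

omit [Finite G] [DecidableEq Ω] in
theorem inv_cen : Inv (Subgroup.centralizer (P : Set G)) (Fx Ω P) :=
  (inv_Fx P).mono (Subgroup.centralizer_le_normalizer _)

/-- the data attached to a good triple -/
theorem of_good (H : S2 G Ω P) {Q t : Finset Ω} (hQ : Q.card = 4) (hQF : Q ⊆ Fx Ω P)
    (hg : Good Ω P Q t) : ∃ (T : Subgroup G) (c : G), Pk Ω Q t T c ∧
      P ≤ Sy G Q ⊓ Subgroup.centralizer (T : Set G) := by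
  obtain ⟨htB, ht, y, y2, yC, yN, yt, yB⟩ := hg
  obtain ⟨T, c, yT, h⟩ := pack H.hy hQ (H.h7 Q hQ) (H.hA Q hQ) htB ht yN yt y2
  refine ⟨T, c, h, fun a ha => ⟨H.le hQ hQF ha, Subgroup.mem_centralizer_iff.2 fun τ hτ => ?_⟩⟩
  have hyS : y ∉ Sy G Q := fun e => yB fun ω hω => mem_Fx.1 hω y e
  exact (h.cz y yT hyS a (H.le hQ hQF ha)
    (Subgroup.mem_centralizer_iff.1 yC a ha).symm τ hτ).eq

/-- (G1) -/
theorem g1 (H : S2 G Ω P) {Q : Finset Ω} (hQ : Q.card = 4) (hQF : Q ⊆ Fx Ω P) {p q x y : Ω}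
    (D : D4 p q x y) (h1 : Good Ω P Q {p, q, x}) (h2 : Good Ω P Q {p, q, y}) : False := by
  obtain ⟨T, c, hT, hPT⟩ := H.of_good hQ hQF h1
  obtain ⟨T', c', hT', hPT'⟩ := H.of_good hQ hQF h2
  set B := Fx Ω (Sy G Q) with hB
  have hp : p ∈ B := h1.1 (by simp)
  have hq : q ∈ B := h1.1 (by simp)
  have hx : x ∈ B := h1.1 (by simp)
  have hy : y ∈ B := h2.1 (by simp)
  have hsub : ({p, q, x, y} : Finset Ω) ⊆ B := by
    intro ω hω
    simp only [Finset.mem_insert, Finset.mem_singleton] at hω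
    rcases hω with rfl | rfl | rfl | rfl <;> assumption
  have hu : (B \ {p, q, x, y}).card = 3 := by
    rw [Finset.card_sdiff_of_subset hsub, D.card, H.h7 Q hQ]
  obtain ⟨a, b, d, hab, had, hbd, hu⟩ := Finset.card_eq_three.1 hu
  have hu' : ∀ ω, (ω ∈ B ∧ ¬ (ω = p ∨ ω = q ∨ ω = x ∨ ω = y)) ↔ (ω = a ∨ ω = b ∨ ω = d) := by
    intro ω
    have := Finset.ext_iff.1 hu ω
    simpa using this
  have ha := (hu' a).2 (by simp)
  have hb := (hu' b).2 (by simp)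
  have hd := (hu' d).2 (by simp)
  obtain ⟨D1, D2, D3, D4', D5, D6⟩ := D
  obtain ⟨τ, hτ, t1, t2, t3, t4⟩ := hT.V y a b d (by unfold D4; grind) (by
    ext ω
    have := hu' ω
    simp only [Finset.mem_sdiff, Finset.mem_insert, Finset.mem_singleton]
    grind)
  obtain ⟨σ, hσ, s1, s2, s3, s4⟩ := hT'.V x a b d (by unfold D4; grind) (by
    ext ω
    have := hu' ω
    simp only [Finset.mem_sdiff, Finset.mem_insert, Finset.mem_singleton]
    grind)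
  have tp : τ • p = p := hT.Tt hτ p (by simp)
  have tq : τ • q = q := hT.Tt hτ q (by simp)
  have tx : τ • x = x := hT.Tt hτ x (by simp)
  have sp : σ • p = p := hT'.Tt hσ p (by simp)
  have sq : σ • q = q := hT'.Tt hσ q (by simp)
  have sy : σ • y = y := hT'.Tt hσ y (by simp)
  have DQ : D4 p q b d := by unfold D4; grind
  have hQ1 : ({p, q, b, d} : Finset Ω) ⊆ B := by
    intro ω hω
    simp only [Finset.mem_insert, Finset.mem_singleton] at hω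
    rcases hω with rfl | rfl | rfl | rfl
    exacts [hp, hq, hb.1, hd.1]
  have hSt : τ * σ ∈ St G ({p, q, b, d} : Finset Ω) := by
    intro ω hω
    simp only [Finset.mem_insert, Finset.mem_singleton] at hω
    rcases hω with rfl | rfl | rfl | rfl <;> simp only [mul_smul, *]
  have h3 : ¬ 3 ∣ Nat.card (Kn G ({p, q, b, d} : Finset Ω)) := by
    rw [H.hy.toHyp.card_Kn DQ.card hQ]
    exact (sev0 H.hy hQ (H.h7 Q hQ) (H.hA Q hQ)).1
  have hK : τ * σ ∉ Kn G ({p, q, b, d} : Finset Ω) :=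
    notMem_of_cyc3 h3 (a := x) (b := y) (c := a) D6 (by rw [mul_smul, s1, t2])
      (by rw [mul_smul, sy, t1]) (by rw [mul_smul, s2, tx])
  apply H.ne
  rw [eq_bot_iff]
  intro w hw
  refine (H.hy.frob _ DQ.card).fpf _ hSt hK w ?_ ?_
  · apply H.hy.Sy_le_Kn DQ.card
    rw [H.hy.Sy_eq hQ DQ.card hQ1]
    exact (hPT hw).1
  · exact Commute.mul_left (Subgroup.mem_centralizer_iff.1 (hPT hw).2 τ hτ)
      (Subgroup.mem_centralizer_iff.1 (hPT' hw).2 σ hσ)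

/-- two blocks sharing a triple and a further point coincide -/
theorem blk_eq (H : S2 G Ω P) {Q Q' t : Finset Ω} (hQ : Q.card = 4) (hQ' : Q'.card = 4)
    (ht : t.card = 3) (h1 : t ⊆ Fx Ω (Sy G Q)) (h2 : t ⊆ Fx Ω (Sy G Q')) {μ : Ω} (hμ : μ ∉ t)
    (m1 : μ ∈ Fx Ω (Sy G Q)) (m2 : μ ∈ Fx Ω (Sy G Q')) : Sy G Q = Sy G Q' := by
  have hc : (insert μ t).card = 4 := by rw [Finset.card_insert_of_notMem hμ, ht]
  rw [← H.hy.Sy_eq hQ hc (Finset.insert_subset m1 h1),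
    H.hy.Sy_eq hQ' hc (Finset.insert_subset m2 h2)]

/-- (I) -/
theorem idx4 (H : S2 G Ω P) {Q Q' t : Finset Ω} (hQ : Q.card = 4) (hQF : Q ⊆ Fx Ω P)
    (hQ' : Q'.card = 4) (hQF' : Q' ⊆ Fx Ω P) (ht : t.card = 3) (h1 : t ⊆ Fx Ω (Sy G Q))
    (h2 : t ⊆ Fx Ω (Sy G Q')) (hne : Sy G Q ≠ Sy G Q') {R : Subgroup G}
    (RC : R ≤ Subgroup.centralizer (P : Set G)) (Rt : R ≤ St G t)
    (RN : R ≤ Subgroup.normalizer (Sy G Q' : Set G)) :
    Nat.card R ≤ 4 * Nat.card ↥(R ⊓ Subgroup.normalizer (Sy G Q : Set G)) := by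
  classical
  have := Fintype.ofFinite G
  set B := Fx Ω (Sy G Q) with hB
  set B' := Fx Ω (Sy G Q') with hB'
  have hD : (Fx Ω P \ B').card = 16 := by
    rw [Finset.card_sdiff_of_subset (H.blk_sub hQ' hQF'), H.h23, H.h7 Q' hQ']
  have key := Finset.card_mul_le_card_mul (s := Finset.univ.filter (· ∈ R)) (t := Fx Ω P \ B')
    (fun (ρ : G) (δ : Ω) => ρ⁻¹ • δ ∈ B) (m := 4)
    (n := Nat.card ↥(R ⊓ Subgroup.normalizer (Sy G Q : Set G))) ?_ ?_
  · have e : (Finset.univ.filter (· ∈ R)).card = Nat.card R := by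
      rw [Nat.card_eq_fintype_card, Fintype.card_subtype]
    rw [e, hD] at key
    omega
  · intro ρ hρ
    have hρ : ρ ∈ R := by simpa using hρ
    have h4 : (ρ • (B \ t)).card = 4 := by
      rw [Finset.card_smul_finset, Finset.card_sdiff_of_subset h1, ht, H.h7 Q hQ]
    rw [← h4]
    refine Finset.card_le_card fun ω hω => ?_
    obtain ⟨μ, hμ, rfl⟩ := Finset.mem_smul_finset.1 hω
    rw [Finset.mem_sdiff] at hμ
    rw [Finset.mem_bipartiteAbove, Finset.mem_sdiff, inv_smul_smul]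
    refine ⟨⟨inv_cen ρ (RC hρ) μ (H.blk_sub hQ hQF hμ.1), fun h => hne ?_⟩, hμ.1⟩
    have := inv_Fx (Ω := Ω) (Sy G Q') ρ⁻¹ (inv_mem (RN hρ)) _ h
    rw [inv_smul_smul] at this
    exact H.blk_eq hQ hQ' ht h1 h2 hμ.2 hμ.1 this
  · intro δ hδ
    rw [Finset.mem_sdiff] at hδ
    by_cases hex : ∃ ρ₀ ∈ R, ρ₀⁻¹ • δ ∈ B
    · obtain ⟨ρ₀, h0, h0B⟩ := hex
      have e : Nat.card ↥(R ⊓ Subgroup.normalizer (Sy G Q : Set G)) =
          (Finset.univ.filter (· ∈ R ⊓ Subgroup.normalizer (Sy G Q : Set G))).card := by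
        rw [Nat.card_eq_fintype_card, Fintype.card_subtype]
      rw [e]
      refine Finset.card_le_card_of_injOn (fun ρ => ρ₀⁻¹ * ρ) (fun ρ hρ => ?_)
        (fun a _ b _ h => by simpa using h)
      have hρ' : ρ ∈ R ∧ ρ⁻¹ • δ ∈ B := by simpa [Finset.mem_bipartiteBelow] using hρ
      obtain ⟨hρ, hρB⟩ := hρ'
      have hσ : ρ₀⁻¹ * ρ ∈ R := mul_mem (inv_mem h0) hρ
      have hnt : ρ⁻¹ • δ ∉ t := fun h => hδ.2 (by
        have := Rt hρ _ h
        rw [smul_inv_smul] at this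
        rw [this]; exact h2 h)
      have hc : (insert (ρ⁻¹ • δ) t).card = 4 := by rw [Finset.card_insert_of_notMem hnt, ht]
      have hS := H.hy.Sy_eq hQ hc (Finset.insert_subset hρB h1)
      have hN := norm_of_sub H.hy hc (ρ := ρ₀⁻¹ * ρ) (by
        intro ω hω
        rw [hS]
        rcases Finset.mem_insert.1 hω with rfl | hω
        · rwa [mul_smul, smul_inv_smul]
        · rw [Rt hσ ω hω]; exact h1 hω)
      rw [hS] at hN
      simpa using ⟨hσ, hN⟩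
    · have : Finset.bipartiteBelow (fun (ρ : G) (δ : Ω) => ρ⁻¹ • δ ∈ B)
          (Finset.univ.filter (· ∈ R)) δ = ∅ := by
        refine Finset.eq_empty_of_forall_notMem fun ρ hρ => hex ?_
        have hρ' : ρ ∈ R ∧ ρ⁻¹ • δ ∈ B := by simpa [Finset.mem_bipartiteBelow] using hρ
        exact ⟨ρ, hρ'⟩
      rw [this]
      simp

/-- an element of `Sy Q' \ P` normalising `Sy Q` makes the common triple good -/
theorem good_of (H : S2 G Ω P) {Q Q' t : Finset Ω} (hQ : Q.card = 4) (hQF : Q ⊆ Fx Ω P)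
    (hQ' : Q'.card = 4) (hQF' : Q' ⊆ Fx Ω P) (ht : t.card = 3) (h1 : t ⊆ Fx Ω (Sy G Q))
    (h2 : t ⊆ Fx Ω (Sy G Q')) (hne : Sy G Q ≠ Sy G Q') {y : G} (hy : y ∈ Sy G Q') (hyP : y ∉ P)
    (hN : y ∈ Subgroup.normalizer (Sy G Q : Set G)) : Good Ω P Q t := by
  refine ⟨h1, ht, y, ((H.hy.mem_Sy hQ').1 hy).2, H.cen hQ' hQF' hy, hN,
    fun ω hω => mem_Fx.1 (h2 hω) y hy, fun h => hne ?_⟩
  obtain ⟨μ, hμ, hμt⟩ := Finset.exists_mem_notMem_of_card_lt_card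
    (show t.card < (Fx Ω (Sy G Q)).card by rw [ht, H.h7 Q hQ]; omega)
  refine H.blk_eq hQ hQ' ht h1 h2 hμt hμ ?_
  rw [← H.hP.fix H.hy hQ' (H.h7 Q' hQ') hQF' hy hyP]
  exact Finset.mem_inter.2 ⟨H.blk_sub hQ hQF hμ, mem_fx.2 (h μ hμ)⟩

omit [Finite G] in
theorem exists_out (H : S2 G Ω P) {Q : Finset Ω} (hQ : Q.card = 4) :
    ∃ α ∈ Fx Ω P, α ∉ Fx Ω (Sy G Q) :=
  Finset.exists_mem_notMem_of_card_lt_card (by rw [H.h23, H.h7 Q hQ]; omega)

/-- (G2) -/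
theorem g2 (H : S2 G Ω P) {Q : Finset Ω} (hQ : Q.card = 4) (hQF : Q ⊆ Fx Ω P) :
    Nat.card (Sy G Q) ≤ 4 * Nat.card P := by
  by_contra hlt
  have all : ∀ t : Finset Ω, t ⊆ Fx Ω (Sy G Q) → t.card = 3 → Good Ω P Q t := by
    intro t h1 ht
    obtain ⟨α, hαF, hαB⟩ := H.exists_out hQ
    have hc : (insert α t).card = 4 := by
      rw [Finset.card_insert_of_notMem fun h => hαB (h1 h), ht]
    have hF : insert α t ⊆ Fx Ω P := Finset.insert_subset hαF (h1.trans (H.blk_sub hQ hQF))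
    have h2 : t ⊆ Fx Ω (Sy G (insert α t)) := (Finset.subset_insert _ _).trans (sub_Fx_Sy _)
    have hne : Sy G Q ≠ Sy G (insert α t) := fun e =>
      hαB (e ▸ sub_Fx_Sy _ (Finset.mem_insert_self _ _))
    have h4 := H.idx4 hQ hQF hc hF ht h1 h2 hne (H.cen hc hF) (le_St_iff.2 h2)
      Subgroup.le_normalizer
    rw [H.hy.toHyp.card_Sy hc hQ] at h4
    have : ¬ Sy G (insert α t) ⊓ Subgroup.normalizer (Sy G Q : Set G) ≤ P := fun h => by
      have := Subgroup.card_le_of_le h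
      omega
    obtain ⟨y, hy, hyP⟩ := SetLike.not_le_iff_exists.1 this
    exact H.good_of hQ hQF hc hF ht h1 h2 hne hy.1 hyP hy.2
  obtain ⟨a, b, c, d, D, rfl⟩ := exists_D4 hQ
  have hs := sub_Fx_Sy (G := G) ({a, b, c, d} : Finset Ω)
  obtain ⟨D1, D2, D3, D4', D5, D6⟩ := id D
  refine H.g1 hQ hQF D (all _ (fun ω hω => hs ?_) ?_) (all _ (fun ω hω => hs ?_) ?_)
  · simp only [Finset.mem_insert, Finset.mem_singleton] at hω ⊢; tauto
  · exact Finset.card_eq_three.2 ⟨a, b, c, D1, D2, D4', rfl⟩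
  · simp only [Finset.mem_insert, Finset.mem_singleton] at hω ⊢; tauto
  · exact Finset.card_eq_three.2 ⟨a, b, d, D1, D3, D5, rfl⟩

/-- (G3), (G4) -/
theorem g4 (H : S2 G Ω P) {Q : Finset Ω} (hQ : Q.card = 4) (hQF : Q ⊆ Fx Ω P) {γ δ : Ω}
    (hγ : γ ∈ Fx Ω (Sy G Q)) (hδ : δ ∈ Fx Ω (Sy G Q)) (hγδ : γ ≠ δ) :
    Nat.card P = 4 ∧ Nat.card (Sy G Q) = 16 ∧ ∃ ε, ε ≠ γ ∧ ε ≠ δ ∧ Good Ω P Q {γ, δ, ε} := by
  obtain ⟨hle, hne⟩ := H.hP.lt_Sy (H.h7 Q hQ) hQF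
  obtain ⟨x, hx, hxP⟩ := SetLike.exists_of_lt (lt_of_le_of_ne hle hne)
  obtain ⟨α, hαF, hαB⟩ := H.exists_out hQ
  have hfix := H.hP.fix H.hy hQ (H.h7 Q hQ) hQF hx hxP
  have hxx : x * x = 1 := (H.ab hQ).2 x hx
  have hxα : x • α ≠ α := fun h => hαB (hfix ▸ Finset.mem_inter.2 ⟨hαF, mem_fx.2 h⟩)
  have xγ : x • γ = γ := mem_Fx.1 hγ x hx
  have xδ : x • δ = δ := mem_Fx.1 hδ x hx
  have xx : x • x • α = α := by rw [← mul_smul, hxx, one_smul]
  have hβB : x • α ∉ Fx Ω (Sy G Q) := fun h => hxα (by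
    have := mem_Fx.1 h x hx
    rw [xx] at this; exact this.symm)
  have D : D4 α (x • α) γ δ :=
    ⟨hxα.symm, fun e => hαB (e ▸ hγ), fun e => hαB (e ▸ hδ), fun e => hβB (e ▸ hγ),
      fun e => hβB (e ▸ hδ), hγδ⟩
  set Q' : Finset Ω := {α, x • α, γ, δ} with hQ'd
  have hQ' : Q'.card = 4 := D.card
  have hF' : Q' ⊆ Fx Ω P := by
    intro ω hω
    simp only [hQ'd, Finset.mem_insert, Finset.mem_singleton] at hω
    rcases hω with rfl | rfl | rfl | rfl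
    exacts [hαF, inv_cen x (H.cen hQ hQF hx) _ hαF, H.blk_sub hQ hQF hγ, H.blk_sub hQ hQF hδ]
  have xN : x ∈ Subgroup.normalizer (Sy G Q' : Set G) := norm_Sy (smul_eq_of_maps (by
    intro ω hω
    simp only [hQ'd, Finset.mem_insert, Finset.mem_singleton] at hω ⊢
    rcases hω with rfl | rfl | rfl | rfl <;> simp [*]))
  have hα' : α ∈ Fx Ω (Sy G Q') := sub_Fx_Sy _ (by simp [hQ'd])
  have hneS : Sy G Q ≠ Sy G Q' := fun e => hαB (e ▸ hα')
  set t := Fx Ω (Sy G Q') ∩ fx Ω x with htd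
  have hγt : γ ∈ t := Finset.mem_inter.2 ⟨sub_Fx_Sy _ (by simp [hQ'd]), mem_fx.2 xγ⟩
  have hδt : δ ∈ t := Finset.mem_inter.2 ⟨sub_Fx_Sy _ (by simp [hQ'd]), mem_fx.2 xδ⟩
  have ht : t.card = 3 := by
    have h4 := four_dvd (inv_Fx (Ω := Ω) (Sy G Q')) (H.hA Q' hQ').le xN
      (by rw [hxx]; exact one_mem _)
    have h5 := Finset.card_sdiff_add_card_inter (Fx Ω (Sy G Q')) (fx Ω x)
    have h6 : 0 < (Fx Ω (Sy G Q') \ fx Ω x).card :=
      Finset.card_pos.2 ⟨α, Finset.mem_sdiff.2 ⟨hα', fun h => hxα (mem_fx.1 h)⟩⟩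
    have h7 : 2 ≤ t.card := by
      rw [← Finset.card_pair hγδ]
      exact Finset.card_le_card (Finset.insert_subset hγt (Finset.singleton_subset_iff.2 hδt))
    rw [H.h7 Q' hQ', ← htd] at h5
    omega
  have h2 : t ⊆ Fx Ω (Sy G Q') := Finset.inter_subset_left
  have h1 : t ⊆ Fx Ω (Sy G Q) := by
    rw [← hfix]
    exact Finset.inter_subset_inter (H.blk_sub hQ' hF') subset_rfl
  obtain ⟨T, c, xT, hT⟩ := pack H.hy hQ' (H.h7 Q' hQ') (H.hA Q' hQ') h2 ht xN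
    (fun ω hω => mem_fx.1 (Finset.mem_inter.1 hω).2) ((H.hy.mem_Sy hQ).1 hx).2
  have hxS : x ∉ Sy G Q' := fun e => hxα (mem_Fx.1 hα' x e)
  have hPZ : P ≤ Sy G Q' ⊓ Subgroup.centralizer (T : Set G) := fun a ha =>
    ⟨H.le hQ' hF' ha, Subgroup.mem_centralizer_iff.2 fun τ hτ =>
      (hT.cz x xT hxS a (H.le hQ' hF' ha) ((H.ab hQ).1 x hx a (hle ha)) τ hτ).eq⟩
  have c1 := Subgroup.card_le_of_le hPZ
  have c2 := H.g2 hQ' hF'
  have c3 := hT.cardS
  have c4 := Nat.le_of_dvd Nat.card_pos hT.four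
  have hq : Nat.card ↥(Sy G Q' ⊓ Subgroup.centralizer (T : Set G)) = 4 := by nlinarith
  rw [hq] at c1 c3
  have hP4 : Nat.card P = 4 := by omega
  have hS16 : Nat.card (Sy G Q) = 16 := by rw [H.hy.toHyp.card_Sy hQ hQ', c3]; rfl
  have hPZ' : P = Sy G Q' ⊓ Subgroup.centralizer (T : Set G) :=
    Subgroup.eq_of_le_of_card_ge hPZ (by omega)
  have hgood : Good Ω P Q t := by
    have TC : T ≤ Subgroup.centralizer (P : Set G) := fun τ hτ =>
      Subgroup.mem_centralizer_iff.2 fun a ha =>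
        (Subgroup.mem_centralizer_iff.1 (hPZ ha).2 τ hτ).symm
    have h4 := H.idx4 hQ hQF hQ' hF' ht h1 h2 hneS TC hT.Tt hT.TN
    have hT64 : Nat.card T = 64 := by
      have := Subgroup.card_mul_index ((Sy G Q').subgroupOf T)
      rw [Nat.card_congr (Subgroup.subgroupOfEquivOfLe hT.ST).toEquiv, c3] at this
      have e := hT.idx
      unfold Subgroup.relIndex at e
      rw [e] at this
      omega
    by_cases hR : T ⊓ Subgroup.normalizer (Sy G Q : Set G) ≤ St G (Fx Ω (Sy G Q))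
    · have hRS : T ⊓ Subgroup.normalizer (Sy G Q : Set G) ≤ Sy G Q :=
        le_Sy (hT.pT.to_le inf_le_left) (hR.trans (St_mono (sub_Fx_Sy Q)))
      have hRS' := Subgroup.eq_of_le_of_card_ge hRS (by omega)
      have ST : Sy G Q ≤ T := hRS' ▸ inf_le_left
      obtain ⟨hle', hne'⟩ := H.hP.lt_Sy (H.h7 Q' hQ') hF'
      obtain ⟨s, hs, hsP⟩ := SetLike.exists_of_lt (lt_of_le_of_ne hle' hne')
      refine H.good_of hQ hQF hQ' hF' ht h1 h2 hneS hs hsP ?_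
      refine Subgroup.mem_normalizer_fintype fun a ha => ?_
      have h5 := hT.comm a⁻¹ (ST (inv_mem ha)) s hs
      rw [← hPZ'] at h5
      have h6 := mul_mem ha (hle h5)
      simpa [mul_assoc] using h6
    · obtain ⟨y, hy, hyB⟩ := SetLike.not_le_iff_exists.1 hR
      refine ⟨h1, ht, y, ?_, TC hy.1, hy.2, hT.Tt hy.1, hyB⟩
      obtain ⟨k, hk⟩ := hT.pT ⟨y, hy.1⟩
      exact ⟨k, by simpa using congrArg Subtype.val hk⟩
  refine ⟨hP4, hS16, ?_⟩
  obtain ⟨ε, hε, hε'⟩ := Finset.exists_mem_notMem_of_card_lt_card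
    (show ({γ, δ} : Finset Ω).card < t.card by rw [ht, Finset.card_pair hγδ]; omega)
  simp only [Finset.mem_insert, Finset.mem_singleton, not_or] at hε'
  refine ⟨ε, hε'.1, hε'.2, ?_⟩
  have : ({γ, δ, ε} : Finset Ω) = t := by
    refine Finset.eq_of_subset_of_card_le (fun ω hω => ?_) ?_
    · simp only [Finset.mem_insert, Finset.mem_singleton] at hω
      rcases hω with rfl | rfl | rfl <;> assumption
    · rw [ht, Finset.card_eq_three.2 ⟨γ, δ, ε, hγδ, Ne.symm hε'.1, Ne.symm hε'.2, rfl⟩]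
  rwa [this]

omit [Finite G] in
theorem good_smul {Q t : Finset Ω} (h : Good Ω P Q t) {c : G}
    (cP : c ∈ Subgroup.normalizer (P : Set G)) (cS : c ∈ Subgroup.normalizer (Sy G Q : Set G)) :
    Good Ω P Q (c • t) := by
  obtain ⟨h1, ht, y, ⟨k, y2⟩, yC, yN, yt, yB⟩ := h
  refine ⟨fun ω hω => ?_, by rw [Finset.card_smul_finset, ht], c * y * c⁻¹,
    ⟨k, by rw [conj_pow, y2]; simp⟩, ?_, mul_mem (mul_mem cS yN) (inv_mem cS), ?_, fun h => yB ?_⟩
  · obtain ⟨μ, hμ, rfl⟩ := Finset.mem_smul_finset.1 hω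
    exact inv_Fx _ c cS μ (h1 hμ)
  · refine Subgroup.mem_centralizer_iff.2 fun a ha => ?_
    have h2 : c⁻¹ * a * c ∈ P := by
      have := (Subgroup.mem_normalizer_iff.1 (inv_mem cP) a).1 ha
      simpa using this
    have h3 := Subgroup.mem_centralizer_iff.1 yC _ h2
    calc a * (c * y * c⁻¹) = c * (c⁻¹ * a * c * y) * c⁻¹ := by group
      _ = c * (y * (c⁻¹ * a * c)) * c⁻¹ := by rw [h3]
      _ = c * y * c⁻¹ * a := by group
  · rw [St_smul]; exact conj_mem_cj.2 yt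
  · intro ω hω
    have := h _ (inv_Fx _ c cS ω hω)
    rwa [mul_smul, mul_smul, inv_smul_smul, smul_left_cancel_iff] at this

/-- (G5) -/
theorem false (H : S2 G Ω P) : False := by
  obtain ⟨Q, hQF, hQ⟩ := Finset.exists_subset_card_eq
    (show 4 ≤ (Fx Ω P).card by rw [H.h23]; omega)
  obtain ⟨p, q, p', q', ⟨hpq, -⟩, hQe⟩ := exists_D4 hQ
  have hp : p ∈ Fx Ω (Sy G Q) := sub_Fx_Sy _ (by simp [hQe])
  have hq : q ∈ Fx Ω (Sy G Q) := sub_Fx_Sy _ (by simp [hQe])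
  obtain ⟨hP4, hS16, r, hrp, hrq, hg⟩ := H.g4 hQ hQF hp hq hpq
  obtain ⟨T, c, hT, hPZ⟩ := H.of_good hQ hQF hg
  have hq4 : Nat.card ↥(Sy G Q ⊓ Subgroup.centralizer (T : Set G)) = 4 := by
    have := hT.cardS
    rw [hS16] at this
    exact (Nat.pow_left_injective two_ne_zero (by simpa using this.symm : _ ^ 2 = 4 ^ 2))
  have hPZ' : P = Sy G Q ⊓ Subgroup.centralizer (T : Set G) :=
    Subgroup.eq_of_le_of_card_ge hPZ (by omega)
  have cP : c ∈ Subgroup.normalizer (P : Set G) := by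
    refine Subgroup.mem_normalizer_fintype fun a ha => ?_
    rw [hPZ'] at ha ⊢
    refine ⟨(Subgroup.mem_normalizer_iff.1 hT.cS a).1 ha.1, ?_⟩
    refine Subgroup.mem_centralizer_iff.2 fun τ hτ => ?_
    have h1 : c⁻¹ * τ * c ∈ T := by
      rw [Subgroup.mem_normalizer_iff.1 hT.cT]; simpa [mul_assoc] using hτ
    have h2 := Subgroup.mem_centralizer_iff.1 ha.2 _ h1
    calc τ * (c * a * c⁻¹) = c * (c⁻¹ * τ * c * a) * c⁻¹ := by group
      _ = c * (a * (c⁻¹ * τ * c)) * c⁻¹ := by rw [h2]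
      _ = c * a * c⁻¹ * τ := by group
  have hc3 : c ^ 3 = 1 := by rw [← hT.c3]; exact pow_orderOf_eq_one c
  have ccc : ∀ ω : Ω, c • c • c • ω = ω := fun ω => by
    rw [← mul_smul, ← mul_smul, show c * c * c = c ^ 3 by rw [pow_succ, pow_two], hc3, one_smul]
  have cp : c • p = p := hT.ct p (by simp)
  have cq : c • q = q := hT.ct q (by simp)
  have cr : c • r = r := hT.ct r (by simp)
  obtain ⟨u, huB, hu⟩ : ∃ u ∈ Fx Ω (Sy G Q), c • u ≠ u := by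
    by_contra h
    push Not at h
    exact hT.cB h
  have hup : p ≠ u := fun e => hu (e ▸ cp)
  obtain ⟨-, -, ε, hεp, hεu, hg'⟩ := H.g4 hQ hQF hp huB hup
  have hg'' := good_smul hg' cP hT.cS
  rw [Finset.smul_finset_insert, Finset.smul_finset_insert, Finset.smul_finset_singleton, cp]
    at hg''
  have inj : ∀ a b : Ω, c • a = c • b → a = b := fun a b h => MulAction.injective c h
  have hεB : ε ∈ Fx Ω (Sy G Q) := hg'.1 (by simp)
  -- the points of the block: `p, q, r, u, c u, c c u` and one more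
  have hεq : ε ≠ q := by
    rintro rfl
    refine H.g1 hQ hQF (p := p) (q := ε) (x := r) (y := u) ⟨hpq, hrp.symm, hup, hrq.symm,
      hεu, fun e => hu (e ▸ cr)⟩ hg ?_
    rwa [Finset.pair_comm ε u]
  have hεr : ε ≠ r := by
    rintro rfl
    refine H.g1 hQ hQF (p := p) (q := ε) (x := q) (y := u) ⟨hrp.symm, hpq, hup, hrq,
      hεu, fun e => hu (e ▸ cq)⟩ (by rwa [Finset.pair_comm ε q]) ?_
    rwa [Finset.pair_comm ε u]
  have c2 : c • c • u ≠ u := fun e => hu (by have := ccc u; rwa [e] at this)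
  have pcu : p ≠ c • u := fun e => hup (inj _ _ (by rw [cp, e]))
  by_cases h1 : ε = c • u
  · subst h1
    refine H.g1 hQ hQF (p := p) (q := c • u) (x := u) (y := c • c • u) ⟨pcu, hup,
      fun e => pcu (inj _ _ (by rw [cp, e])), hu, fun e => hu (inj _ _ e).symm, c2.symm⟩
      (by rwa [Finset.pair_comm (c • u) u]) hg''
  by_cases h2 : ε = c • c • u
  · subst h2
    rw [ccc] at hg''
    refine H.g1 hQ hQF (p := p) (q := u) (x := c • c • u) (y := c • u) ⟨hup, hεp.symm, pcu,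
      c2.symm, hu.symm, h1⟩ hg' (by rwa [Finset.pair_comm u (c • u)])
  -- `ε` is the seventh point, so it is fixed by `c`
  have cε : c • ε = ε := by
    by_contra hne
    have hm := card_fx_mod (Ω := Ω) (k := 1) Nat.prime_three (g := c) (F := Fx Ω (Sy G Q))
      (by rw [pow_one, hc3]; exact one_mem _) (inv_Fx _ c hT.cS)
    have h5 := Finset.card_sdiff_add_card_inter (Fx Ω (Sy G Q)) (fx Ω c)
    have h6 : ({p, q, r} : Finset Ω).card ≤ (Fx Ω (Sy G Q) ∩ fx Ω c).card :=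
      Finset.card_le_card fun ω hω => Finset.mem_inter.2 ⟨hg.1 hω, mem_fx.2 (hT.ct ω hω)⟩
    have D : D4 u (c • u) (c • c • u) ε :=
      ⟨hu.symm, c2.symm, hεu.symm, fun e => hu (inj _ _ e).symm, fun e => h1 e.symm,
        fun e => h2 e.symm⟩
    have h8 : ({u, c • u, c • c • u, ε} : Finset Ω).card ≤ (Fx Ω (Sy G Q) \ fx Ω c).card := by
      refine Finset.card_le_card fun ω hω => ?_
      simp only [Finset.mem_insert, Finset.mem_singleton] at hω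
      have b1 := inv_Fx _ c hT.cS u huB
      have b2 := inv_Fx _ c hT.cS _ b1
      rw [Finset.mem_sdiff, mem_fx]
      rcases hω with rfl | rfl | rfl | rfl
      exacts [⟨huB, hu⟩, ⟨b1, fun e => hu (inj _ _ e)⟩,
        ⟨b2, fun e => hu (inj _ _ (inj _ _ e))⟩, ⟨hεB, hne⟩]
    rw [hg.2.1] at h6
    rw [D.card] at h8
    rw [H.h7 Q hQ] at hm h5
    unfold Nat.ModEq at hm
    omega
  rw [cε] at hg''
  exact H.g1 hQ hQF (p := p) (q := ε) (x := u) (y := c • u) ⟨hεp.symm, hup, pcu, hεu, h1, hu.symm⟩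
    (by rwa [Finset.pair_comm ε u]) (by rwa [Finset.pair_comm ε (c • u)])

end S2

/-- Blocks `B(Q) = Fx (Sy Q)`; `B(Q') = B(Q)` for `Q' ⊆ B(Q)` (`Sy_eq`).  `sev1` + `quad` (`W = Sy Q`, `T`):
every `Sy Q` is elementary abelian of order `q²`, where `q = |Z_T|`, `Z_T = Sy Q ⊓ C(T) = C_{Sy Q}(y)` for
`y ∈ T \ Sy Q`; `q ≡ 1 (mod 3)` (`c` normalises `Z_T`), `q > 1`, so `q ≥ 4`.  Suppose `P ≠ ⊥`, `r = |P|`,
`F = Fx P` (23 points).  For `Q' ⊆ F`: `P < Sy Q' ≤ C(P)`, `B(Q') ⊆ F`, and `s ∈ Sy Q' \ P` fixes in `F`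
exactly `B(Q')` (`PMax.fix`).  Fix `Q ⊆ F`, `S`, `B`; `M = C(P) ⊓ N(S)`.  A triple `t ⊆ B` is *good* if
some 2-element `y ∈ M ⊓ St t` does not fix `B`; then for `T ∋ y` of `sev1`, `P ≤ Z_T`, `T ≤ M`.
(G1) Good triples do not share exactly two points: `t = 123`, `t' = 124`, `τ = (45)(67)`,
`τ' = (35)(67)`; `τ τ'` is a 3-cycle fixing `Q₁ = {1,2,6,7}`, outside `Kn Q₁ ≥ S` (`sev0`,
`notMem_of_cyc3`), and centralises `P ≠ ⊥`.
(I) Let `t ⊆ B` be a triple, `B* = B(Q*) ≠ B` a block in `F` through `t`, `R ≤ C(P) ⊓ St t` stabilising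
`B*`.  The `R`-orbit of `B` (action on finsets) consists of blocks through `t` inside `F` other than
`B*`; without `t` they are disjoint 4-subsets of the 16 points `F \ B*`.  So the stabiliser `R_B` has
index `≤ 4`, and `R_B ≤ M` (an element stabilising `B` normalises `S = Sy (ρ Q)`).
(G2) `|S : P| ≤ 4`: else for every `t` (choose `λ ∈ F \ B`, `Q* = insert λ t`, `R = Sy Q*`) `R_B > P`
contains `y ∉ P`, which moves the points of `B \ t`; all triples are good, against (G1).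
(G3) `x ∈ S \ P`, `α ∈ F \ B`, `β = xα`, `γ ≠ δ ∈ B`, `Q* = {α,β,γ,δ}`, `S*`, `B*`: `x ∈ N(S*)` moves four
points of `B*` (`four_dvd`), fixes `t = B* ∩ B ∋ γ, δ`.  `T* ∋ x` from `sev1` for `(Q*, t)`;
`P ≤ C_{S*}(x) = Z_{T*}`, so `r ≤ q`; `q² ≤ 4r`: `q = r = 4`, `P = Z_{T*}`, `|T*| = 64`.
(G4) This `t` is good: `R = T*` in (I), `|R_B| ≥ 16`.  If `R_B` does not fix `B`, done.  Otherwise
`R_B ≤ S`, `|S| = 16`, so `S ≤ T*`; for `s* ∈ S* \ P`, `s ∈ S`: `[s, s*] ∈ Z_{T*} = P ≤ S` (`quad`), so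
`s* ∈ N(S)`, `s* ∈ M ⊓ St t` moves `B \ t`.
(G5) So any two points of `B` lie in a good triple.  Take a good `t = 123` with `T`, `c`; `P = Z_T`
(order 4), so `c` normalises `P`, `S`, `M` and permutes the good triples; it acts on `B \ t` as `(5 6 7)`
fixing `4`.  The good triple `{1,5,ε}` has `ε ∈ {4,6,7}` by (G1), and shares exactly two points with
`{1,6,cε}`. -/
theorem sev2 (hy : Hyp2 G Ω)
    (h7 : ∀ Q : Finset Ω, Q.card = 4 → (Fx Ω (Sy G Q)).card = 7 ∧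
      (act (inv_Fx (Ω := Ω) (Sy G Q))).range = alternatingGroup (Fx Ω (Sy G Q)))
    {P : Subgroup G} (hP : PMax Ω 7 P) (h23 : (Fx Ω P).card = 23) : P = ⊥ := by
  by_contra h
  exact S2.false ⟨hy, fun Q hQ => (h7 Q hQ).1, fun Q hQ => (h7 Q hQ).2, hP, h23, h⟩

end CL.F4
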